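import Cfsg.Agent.H454.Reg.Alt.Frame

/-!
# S3691, alternating socle: `H` has a regular normal elementary abelian subgroup
-/

set_option autoImplicit false

namespace Cfsg.Agent.H454.Reg.Alt

open Equiv MulAction Subgroup
open scoped Pointwise

universe u

section linear

variable {r : ℕ} [Fact r.Prime] {V : Type u} [AddCommGroup V] [Module (ZMod r) V]

/-- a commutator of transvections -/
theorem comm_transvection {f g : Module.Dual (ZMod r) V} {w u : V} (hfw : f w = 0) (hgu : g u = 0) (hfu : f u = 1)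
    (hgw : g w = 0) :
    LinearEquiv.transvection hfw * LinearEquiv.transvection hgu * (LinearEquiv.transvection hfw)⁻¹ *
      (LinearEquiv.transvection hgu)⁻¹ = LinearEquiv.transvection hgw := by
  rw [mul_inv_eq_iff_eq_mul, mul_inv_eq_iff_eq_mul]
  apply LinearEquiv.ext
  intro x
  simp only [LinearEquiv.mul_apply, LinearEquiv.transvection.apply, map_add, map_smul, smul_add, hgu, hfu, hgw, add_zero,
    zero_smul, one_smul]
  abel

theorem exists_transvection [Finite V] (h30 : 30 ≤ Nat.card V) (hnp : ¬ (Nat.card V).Prime) :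
    ∃ σ : V ≃ₗ[ZMod r] V, σ ≠ 1 ∧ (∀ χ : (V ≃ₗ[ZMod r] V) →* ℤˣ, χ σ = 1) ∧
      ∃ s : Finset V, s.card = 3 ∧ ∀ x ∈ s, σ x = x := by
  classical
  have hr : r.Prime := Fact.out
  have hcard : Nat.card V = r ^ Module.finrank (ZMod r) V := by
    rw [Module.natCard_eq_pow_finrank (K := ZMod r) (V := V), Nat.card_zmod]
  set d := Module.finrank (ZMod r) V with hd
  have hd0 : d ≠ 0 := by
    intro h
    rw [h, pow_zero] at hcard
    omega
  have hd1 : d ≠ 1 := by
    intro h
    rw [h, pow_one] at hcard
    exact hnp (by rw [hcard]; exact hr)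
  let b := Module.finBasisOfFinrankEq (ZMod r) V hd.symm
  rcases hr.eq_two_or_odd' with hr2 | hro
  · -- `r = 2`
    have hd5 : 3 ≤ d := by
      by_contra hlt
      have : r ^ d ≤ 2 ^ 2 := by
        rw [hr2]
        exact Nat.pow_le_pow_right (by norm_num) (by omega)
      omega
    let i0 : Fin d := ⟨0, by omega⟩
    let i1 : Fin d := ⟨1, by omega⟩
    let i2 : Fin d := ⟨2, by omega⟩
    have h01 : i0 ≠ i1 := by simp [i0, i1]
    have h02 : i0 ≠ i2 := by simp [i0, i2]
    have h12 : i1 ≠ i2 := by simp [i1, i2]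
    have e : ∀ i j : Fin d, b.coord i (b j) = if j = i then 1 else 0 := fun i j => by
      rw [Module.Basis.coord_apply, Module.Basis.repr_self, Finsupp.single_apply]
    have hfw : b.coord i0 (b i1) = 0 := by rw [e, if_neg h01.symm]
    have hgu : b.coord i2 (b i0) = 0 := by rw [e, if_neg h02]
    have hfu : b.coord i0 (b i0) = 1 := by rw [e, if_pos rfl]
    have hgw : b.coord i2 (b i1) = 0 := by rw [e, if_neg h12]
    refine ⟨LinearEquiv.transvection hgw, ?_, ?_, {0, b i0, b i1}, ?_, ?_⟩
    · intro h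
      have h1 := congrArg (fun s : V ≃ₗ[ZMod r] V => s (b i2)) h
      simp only [LinearEquiv.transvection.apply, LinearEquiv.coe_one, id_eq] at h1
      rw [e, if_pos rfl, one_smul, add_eq_left] at h1
      exact b.ne_zero i1 h1
    · intro χ
      rw [← comm_transvection hfw hgu hfu hgw, map_mul, map_mul, map_mul, map_inv, map_inv, mul_right_comm,
        mul_inv_cancel_right, mul_inv_cancel]
    · rw [Finset.card_insert_of_notMem, Finset.card_insert_of_notMem, Finset.card_singleton]
      · rw [Finset.mem_singleton]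
        exact fun h => h01 (b.injective h)
      · rw [Finset.mem_insert, Finset.mem_singleton]
        rintro (h | h)
        · exact b.ne_zero i0 h.symm
        · exact b.ne_zero i1 h.symm
    · intro x hx
      rw [Finset.mem_insert, Finset.mem_insert, Finset.mem_singleton] at hx
      rw [LinearEquiv.transvection.apply]
      rcases hx with rfl | rfl | rfl
      · rw [map_zero, zero_smul, add_zero]
      · rw [hgu, zero_smul, add_zero]
      · rw [hgw, zero_smul, add_zero]
  · -- `r` odd
    have hr3 : 3 ≤ r := by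
      rcases hro with ⟨j, hj⟩
      have := hr.two_le
      omega
    let i0 : Fin d := ⟨0, by omega⟩
    let i1 : Fin d := ⟨1, by omega⟩
    have h01 : i0 ≠ i1 := by simp [i0, i1]
    have e : ∀ i j : Fin d, b.coord i (b j) = if j = i then 1 else 0 := fun i j => by
      rw [Module.Basis.coord_apply, Module.Basis.repr_self, Finsupp.single_apply]
    have hfw : b.coord i0 (b i1) = 0 := by rw [e, if_neg h01.symm]
    have h2 : (2 : ZMod r) ≠ 0 := by
      have : ((2 : ℕ) : ZMod r) ≠ 0 := by
        rw [Ne, ZMod.natCast_eq_zero_iff]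
        intro h
        have := Nat.le_of_dvd (by norm_num) h
        omega
      exact_mod_cast this
    have hpow : ∀ n : ℕ, ∀ x, ((LinearEquiv.transvection hfw) ^ n) x = x + (n * b.coord i0 x) • b i1 := by
      intro n
      induction n with
      | zero => intro x; simp
      | succ n ih =>
        intro x
        rw [pow_succ, LinearEquiv.mul_apply, ih, LinearEquiv.transvection.apply, map_add, map_smul, hfw, smul_zero,
          add_zero, add_assoc, ← add_smul]
        congr 2
        push_cast
        ring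
    refine ⟨LinearEquiv.transvection hfw, ?_, ?_, {0, b i1, (2 : ZMod r) • b i1}, ?_, ?_⟩
    · intro h
      have h1 := congrArg (fun s : V ≃ₗ[ZMod r] V => s (b i0)) h
      simp only [LinearEquiv.transvection.apply, LinearEquiv.coe_one, id_eq] at h1
      rw [e, if_pos rfl, one_smul, add_eq_left] at h1
      exact b.ne_zero i1 h1
    · intro χ
      have h1 : (LinearEquiv.transvection hfw) ^ r = 1 := by
        apply LinearEquiv.ext
        intro x
        rw [hpow, CharP.cast_eq_zero, zero_mul, zero_smul, add_zero]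
        rfl
      have h3 : χ (LinearEquiv.transvection hfw) ^ r = 1 := by rw [← map_pow, h1, map_one]
      rcases Int.units_eq_one_or (χ (LinearEquiv.transvection hfw)) with h4 | h4
      · exact h4
      · rw [h4, hro.neg_one_pow] at h3
        exact absurd h3 (by decide)
    · rw [Finset.card_insert_of_notMem, Finset.card_insert_of_notMem, Finset.card_singleton]
      · rw [Finset.mem_singleton]
        intro h
        have h3 : (1 : ZMod r) • b i1 = (2 : ZMod r) • b i1 := by rw [one_smul]; exact h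
        have h4 := smul_left_injective (ZMod r) (b.ne_zero i1) h3
        have h5 : (1 : ZMod r) = 0 := by linear_combination -h4
        exact one_ne_zero h5
      · rw [Finset.mem_insert, Finset.mem_singleton]
        rintro (h | h)
        · exact b.ne_zero i1 h.symm
        · exact (smul_ne_zero h2 (b.ne_zero i1)) h.symm
    · intro x hx
      rw [Finset.mem_insert, Finset.mem_insert, Finset.mem_singleton] at hx
      rw [LinearEquiv.transvection.apply]
      rcases hx with rfl | rfl | rfl
      · rw [map_zero, zero_smul, add_zero]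
      · rw [hfw, zero_smul, add_zero]
      · rw [map_smul, hfw, smul_zero, zero_smul, add_zero]

end linear

section hat

variable {Ω : Type u} [Fintype Ω] [DecidableEq Ω] {V : Subgroup (Perm Ω)}

/-- a regular subgroup is in bijection with the points -/
noncomputable def pt (htr : ∀ x y : Ω, ∃ v ∈ V, v x = y) (hfree : ∀ v ∈ V, ∀ x, v x = x → v = 1) (a : Ω) : V ≃ Ω :=
  Equiv.ofBijective (fun v => (v : Perm Ω) a) ⟨fun u v huv => by
    have h1 : (v : Perm Ω)⁻¹ * u = 1 := by
      apply hfree _ (V.mul_mem (V.inv_mem v.2) u.2) a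
      change (v : Perm Ω)⁻¹ ((u : Perm Ω) a) = a
      have h2 : (u : Perm Ω) a = (v : Perm Ω) a := huv
      rw [h2]
      exact (v : Perm Ω).symm_apply_apply a
    exact Subtype.ext (inv_mul_eq_one.1 h1).symm, fun x => by
    obtain ⟨v, hv, hvx⟩ := htr a x
    exact ⟨⟨v, hv⟩, hvx⟩⟩

omit [Fintype Ω] [DecidableEq Ω] in
theorem pt_apply (htr : ∀ x y : Ω, ∃ v ∈ V, v x = y) (hfree : ∀ v ∈ V, ∀ x, v x = x → v = 1) (a : Ω) (v : V) :
    pt htr hfree a v = (v : Perm Ω) a := rfl

/-- the permutation of the points induced by an automorphism of a regular subgroup -/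
noncomputable def hat (htr : ∀ x y : Ω, ∃ v ∈ V, v x = y) (hfree : ∀ v ∈ V, ∀ x, v x = x → v = 1) (a : Ω) :
    MulAut V →* Perm Ω :=
  (pt htr hfree a).permCongrHom.toMonoidHom.comp (MulAut.toPerm V)

omit [Fintype Ω] [DecidableEq Ω] in
theorem hat_apply (htr : ∀ x y : Ω, ∃ v ∈ V, v x = y) (hfree : ∀ v ∈ V, ∀ x, v x = x → v = 1) (a : Ω) (σ : MulAut V)
    (v : V) : hat htr hfree a σ ((v : Perm Ω) a) = ((σ v : V) : Perm Ω) a := by
  change (pt htr hfree a) (σ ((pt htr hfree a).symm ((v : Perm Ω) a))) = _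
  rw [← pt_apply htr hfree a v, Equiv.symm_apply_apply, pt_apply]

omit [Fintype Ω] [DecidableEq Ω] in
theorem hat_mem (htr : ∀ x y : Ω, ∃ v ∈ V, v x = y) (hfree : ∀ v ∈ V, ∀ x, v x = x → v = 1) (a : Ω) (σ : MulAut V) :
    hat htr hfree a σ ∈ normalizer (V : Set (Perm Ω)) := by
  have key : ∀ (σ : MulAut V) (v : V), hat htr hfree a σ * (v : Perm Ω) * (hat htr hfree a σ)⁻¹ = ((σ v : V) : Perm Ω) := by
    intro σ v
    rw [mul_inv_eq_iff_eq_mul]
    ext x
    obtain ⟨u, rfl⟩ := (pt htr hfree a).surjective x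
    rw [pt_apply]
    change hat htr hfree a σ ((v : Perm Ω) ((u : Perm Ω) a)) = ((σ v : V) : Perm Ω) (hat htr hfree a σ ((u : Perm Ω) a))
    rw [hat_apply]
    have h1 : (v : Perm Ω) ((u : Perm Ω) a) = ((v * u : V) : Perm Ω) a := rfl
    rw [h1, hat_apply, map_mul]
    rfl
  rw [Subgroup.mem_normalizer_iff]
  intro x
  constructor
  · intro hx
    rw [key σ ⟨x, hx⟩]
    exact (σ ⟨x, hx⟩).2
  · intro hx
    have h1 := key σ⁻¹ ⟨_, hx⟩
    rw [map_inv, inv_inv] at h1
    have h2 : (hat htr hfree a σ)⁻¹ * (hat htr hfree a σ * x * (hat htr hfree a σ)⁻¹) * hat htr hfree a σ = x := by group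
    rw [← h2]
    have h3 : (hat htr hfree a σ)⁻¹ * ((⟨_, hx⟩ : V) : Perm Ω) * hat htr hfree a σ ∈ V := by
      rw [h1]; exact (σ⁻¹ ⟨_, hx⟩).2
    exact h3

omit [Fintype Ω] [DecidableEq Ω] in
theorem hat_injective (htr : ∀ x y : Ω, ∃ v ∈ V, v x = y) (hfree : ∀ v ∈ V, ∀ x, v x = x → v = 1) (a : Ω) :
    Function.Injective (hat htr hfree a) := by
  rw [injective_iff_map_eq_one]
  intro σ hσ
  apply MulEquiv.ext
  intro v
  have h1 := hat_apply htr hfree a σ v
  rw [hσ] at h1
  exact ((pt htr hfree a).injective (by rw [pt_apply, pt_apply]; exact h1)).symm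

/-- a regular subgroup is not normalised by the alternating group -/
theorem not_alt_le_normalizer (h5 : 5 ≤ Fintype.card Ω) (htr : ∀ x y : Ω, ∃ v ∈ V, v x = y)
    (hfree : ∀ v ∈ V, ∀ x, v x = x → v = 1) : ¬ alternatingGroup Ω ≤ normalizer (V : Set (Perm Ω)) := by
  intro hle
  have hnt : Nontrivial Ω := Fintype.one_lt_card_iff_nontrivial.1 (by omega)
  obtain ⟨a⟩ : Nonempty Ω := inferInstance
  have hcard : Nat.card V = Fintype.card Ω := by
    rw [Nat.card_congr (pt htr hfree a), Nat.card_eq_fintype_card]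
  have hs : IsSimpleGroup (alternatingGroup Ω) := alternatingGroup.isSimpleGroup (by
    rw [Nat.card_eq_fintype_card]; exact h5)
  have hn : (V.subgroupOf (alternatingGroup Ω)).Normal := by
    constructor
    intro n hn g
    exact (Subgroup.mem_normalizer_iff.1 (hle g.2) (n : Perm Ω)).1 hn
  rcases hn.eq_bot_or_eq_top with h1 | h1
  · -- the sign is injective on `V`
    have h2 : Nat.card V ≤ Nat.card ℤˣ := by
      let f : V →* ℤˣ := Perm.sign.comp V.subtype
      have hf : Function.Injective f := by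
        rw [injective_iff_map_eq_one]
        intro v hv
        have h3 : (⟨(v : Perm Ω), Perm.mem_alternatingGroup.2 hv⟩ : alternatingGroup Ω) ∈
            V.subgroupOf (alternatingGroup Ω) := v.2
        rw [h1, Subgroup.mem_bot] at h3
        have h4 : (v : Perm Ω) = 1 := congrArg Subtype.val h3
        exact Subtype.ext h4
      exact Nat.card_le_card_of_injective f hf
    have h3 : Nat.card ℤˣ = 2 := by rw [Nat.card_eq_fintype_card]; rfl
    omega
  · have h2 := Subgroup.subgroupOf_eq_top.1 h1
    have h3 := Subgroup.card_le_of_le h2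
    rw [hcard, Nat.card_eq_fintype_card] at h3
    have h4 := two_mul_card_alternatingGroup (α := Ω)
    rw [Fintype.card_perm] at h4
    have h5' : ∀ n, 5 ≤ n → 2 * n < Nat.factorial n := by
      intro n hn
      induction n, hn using Nat.le_induction with
      | base => decide
      | succ n hn ih =>
        rw [Nat.factorial_succ]
        nlinarith
    have := h5' _ h5
    omega

end hat

section affine

variable {Ω : Type u} [Fintype Ω] [DecidableEq Ω] {G H B : Subgroup (Perm Ω)} {Γ : Finset Ω} {k : ℕ}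

/-- `H` contains the normaliser in `G` of its normal subgroup `V`, if `V` is not normalised by `Alt(Ω)` -/
theorem PEx.normalizer_le (h : PEx G H B) {V : Subgroup (Perm Ω)} (hVH : ∀ x ∈ H, ∀ v ∈ V, x * v * x⁻¹ ∈ V)
    (hn : ¬ alternatingGroup Ω ≤ normalizer (V : Set (Perm Ω))) {g : Perm Ω} (hg : g ∈ normalizer (V : Set (Perm Ω)))
    (hgG : g ∈ G) : g ∈ H := by
  have hle : H ≤ normalizer (V : Set (Perm Ω)) ⊓ G := by
    refine le_inf (fun x hx => ?_) h.hG
    rw [Subgroup.mem_normalizer_iff]
    intro v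
    refine ⟨fun hv => hVH x hx v hv, fun hv => ?_⟩
    have h1 := hVH x⁻¹ (H.inv_mem hx) _ hv
    have h2 : x⁻¹ * (x * v * x⁻¹) * x⁻¹⁻¹ = v := by group
    rwa [h2] at h1
  rcases h.max _ hle inf_le_right with h1 | h1
  · rw [← h1]; exact ⟨hg, hgG⟩
  · exfalso
    apply hn
    refine h.alt.trans ?_
    rw [← h1]
    exact inf_le_left

theorem Two.affine (h : Two G H B Γ k) (hk : k ≤ 3) {V : Subgroup (Perm Ω)}
    (hVH : ∀ x ∈ H, ∀ v ∈ V, x * v * x⁻¹ ∈ V) (hcomm : ∀ u ∈ V, ∀ v ∈ V, u * v = v * u) {r : ℕ} (hr : r.Prime)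
    (hexp : ∀ v ∈ V, v ^ r = 1) (htr : ∀ x y : Ω, ∃ v ∈ V, v x = y) (hfree : ∀ v ∈ V, ∀ x, v x = x → v = 1) :
    k = 2 ∧ (Fintype.card Ω).Prime ∧
      ∃ ι : Perm Ω, ι * ι = 1 ∧ (∃ a, ∀ x, ι x = x ↔ x = a) ∧ (ι ∈ G → ι ∈ H) := by
  classical
  have hm := h.deg
  have := Fact.mk hr
  have hnt : Nontrivial Ω := Fintype.one_lt_card_iff_nontrivial.1 (by omega)
  obtain ⟨a⟩ : Nonempty Ω := inferInstance
  have hcardV : Nat.card V = Fintype.card Ω := by
    rw [Nat.card_congr (pt htr hfree a), Nat.card_eq_fintype_card]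
  have hHn : ∀ g ∈ normalizer (V : Set (Perm Ω)), g ∈ G → g ∈ H := fun g hg hgG =>
    h.normalizer_le hVH (not_alt_le_normalizer (by omega) htr hfree) hg hgG
  -- the additive group
  obtain ⟨W, _, _, ⟨e⟩⟩ : ∃ (W : Type u) (_ : AddCommGroup W) (_ : Module (ZMod r) W), Nonempty (V ≃* Multiplicative W) := by
    let _ : CommGroup V := { (inferInstance : Group V) with mul_comm := fun u v => Subtype.ext (hcomm u u.2 v v.2) }
    let _ : Module (ZMod r) (Additive V) := AddCommGroup.zmodModule (n := r) (G := Additive V) fun v => by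
      change Additive.ofMul ((Additive.toMul v) ^ r) = 0
      have : (Additive.toMul v) ^ r = 1 := Subtype.ext (hexp _ (Additive.toMul v).2)
      rw [this]; rfl
    exact ⟨Additive V, inferInstance, inferInstance, ⟨MulEquiv.refl V⟩⟩
  have hfinW : Finite W := Finite.of_equiv V (e.toEquiv.trans Multiplicative.toAdd)
  have hcardW : Nat.card W = Fintype.card Ω := by
    rw [← hcardV]; exact (Nat.card_congr (e.toEquiv.trans Multiplicative.toAdd)).symm
  let q : W ≃ Ω := (Multiplicative.ofAdd.trans e.symm.toEquiv).trans (pt htr hfree a)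
  have hq0 : q 0 = a := by
    change ((e.symm (Multiplicative.ofAdd 0) : V) : Perm Ω) a = a
    rw [ofAdd_zero, map_one]; rfl
  let tm : (W ≃ₗ[ZMod r] W) →* MulAut V :=
    { toFun := fun σ => (e.trans (AddEquiv.toMultiplicative σ.toAddEquiv)).trans e.symm
      map_one' := by
        apply MulEquiv.ext; intro v
        exact e.symm_apply_apply v
      map_mul' := fun σ τ => by
        apply MulEquiv.ext; intro v
        change e.symm _ = e.symm (Multiplicative.ofAdd (σ (Multiplicative.toAdd (e (e.symm _)))))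
        rw [e.apply_symm_apply]; rfl }
  let ψ : (W ≃ₗ[ZMod r] W) →* Perm Ω := (hat htr hfree a).comp tm
  have hψ : ∀ σ (v : W), ψ σ (q v) = q (σ v) := fun σ v => by
    change hat htr hfree a (tm σ) (((e.symm (Multiplicative.ofAdd v) : V) : Perm Ω) a) = _
    rw [hat_apply]
    change ((e.symm (Multiplicative.ofAdd (σ (Multiplicative.toAdd (e (e.symm (Multiplicative.ofAdd v)))))) : V) : Perm Ω) a = _
    rw [e.apply_symm_apply]; rfl
  have hψinj : Function.Injective ψ := by
    rw [injective_iff_map_eq_one]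
    intro σ hσ
    apply LinearEquiv.ext
    intro v
    have h1 := hψ σ v
    rw [hσ] at h1
    exact (q.injective h1).symm
  have hψH : ∀ σ, Perm.sign (ψ σ) = 1 → ψ σ ∈ H := fun σ hσ =>
    hHn _ (hat_mem htr hfree a (tm σ)) (h.alt (Perm.mem_alternatingGroup.2 hσ))
  -- `m` is prime
  have hprime : (Fintype.card Ω).Prime := by
    by_contra hnp
    obtain ⟨σ, hσ1, hχ, s, hs3, hs⟩ := exists_transvection (r := r) (V := W) (by rw [hcardW]; exact hm)
      (by rw [hcardW]; exact hnp)
    obtain ⟨t, hts, htk⟩ := Finset.exists_subset_card_eq (s := s.image q)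
      (n := k) (by rw [Finset.card_image_of_injective _ q.injective, hs3]; exact hk)
    have h1 : ψ σ = 1 := by
      refine h.triv _ (hψH σ (hχ (Perm.sign.comp ψ))) (Perm.mem_alternatingGroup.2 (hχ (Perm.sign.comp ψ))) t htk ?_
      intro x hx
      obtain ⟨v, hv, rfl⟩ := Finset.mem_image.1 (hts hx)
      rw [hψ, hs v hv]
    exact hσ1 (hψinj (by rw [h1, map_one]))
  have hr30 : r = Fintype.card Ω := by
    have hntV : Nontrivial V := by
      rw [← Finite.one_lt_card_iff_nontrivial, hcardV]; omega
    obtain ⟨v, hv⟩ := exists_ne (1 : V)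
    have h1 : orderOf v ∣ r := orderOf_dvd_of_pow_eq_one (Subtype.ext (hexp v v.2))
    have h2 : orderOf v ∣ Fintype.card Ω := by rw [← hcardV]; exact orderOf_dvd_natCard v
    have h3 : orderOf v ≠ 1 := fun h4 => hv (orderOf_eq_one_iff.1 h4)
    rcases (Nat.dvd_prime hr).1 h1 with h4 | h4
    · exact absurd h4 h3
    · rcases (Nat.dvd_prime hprime).1 h2 with h5 | h5
      · exact absurd h5 h3
      · rw [← h4, ← h5]
  have hne : ∀ n : ℕ, 0 < n → n < 30 → (n : ZMod r) ≠ 0 := by
    intro n h1 h2 h3
    rw [ZMod.natCast_eq_zero_iff] at h3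
    have := Nat.le_of_dvd h1 h3
    omega
  have hntA : Nontrivial W := by
    rw [← Finite.one_lt_card_iff_nontrivial, hcardW]; omega
  have hk1 : k ≠ 1 := by
    rintro rfl
    have h2 : (2 : ZMod r) ≠ 0 := by exact_mod_cast hne 2 (by norm_num) (by norm_num)
    have h3 : (3 : ZMod r) ≠ 0 := by exact_mod_cast hne 3 (by norm_num) (by norm_num)
    set τ : W ≃ₗ[ZMod r] W := LinearEquiv.smulOfNeZero (ZMod r) (W) (2 : ZMod r) h2 with hτ
    have hsign : Perm.sign (ψ (τ * τ)) = 1 := by
      rw [map_mul, map_mul]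
      exact Int.units_mul_self _
    have h1 : ψ (τ * τ) = 1 := by
      refine h.triv _ (hψH _ hsign) (Perm.mem_alternatingGroup.2 hsign) {a} (Finset.card_singleton a) ?_
      intro x hx
      rw [Finset.mem_singleton] at hx
      rw [hx, ← hq0, hψ, map_zero]
    have h4 : τ * τ = 1 := hψinj (by rw [h1, map_one])
    obtain ⟨v, hv⟩ := exists_ne (0 : W)
    have h5 : (2 : ZMod r) • (2 : ZMod r) • v = v := congrArg (fun f : W ≃ₗ[ZMod r] W => f v) h4
    have h6 : (3 : ZMod r) • v = 0 := by
      have h7 : (3 : ZMod r) • v + v = (2 : ZMod r) • (2 : ZMod r) • v := by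
        rw [smul_smul]
        nth_rewrite 2 [← one_smul (ZMod r) v]
        rw [← add_smul]
        congr 1
        norm_num
      rw [h5, add_eq_right] at h7
      exact h7
    exact (smul_ne_zero h3 hv) h6
  have hk3 : k ≠ 3 := by
    rintro rfl
    -- `|H| ≤ m ^ 2`
    have hntV : Nontrivial V := by
      rw [← Finite.one_lt_card_iff_nontrivial, hcardV]; omega
    obtain ⟨v, hv⟩ := exists_ne (1 : V)
    have hgen : ∀ u ∈ V, u ∈ zpowers (v : Perm Ω) := by
      intro u hu
      have hp : (Nat.card V).Prime := by rw [hcardV]; exact hprime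
      have := Fact.mk hp
      have h1 : zpowers v = ⊤ := zpowers_eq_top_of_prime_card (p := Nat.card V) rfl hv
      have h2 : (⟨u, hu⟩ : V) ∈ zpowers v := by rw [h1]; trivial
      obtain ⟨n, hn⟩ := h2
      exact ⟨n, congrArg Subtype.val hn⟩
    have hle : Nat.card H ≤ Fintype.card Ω * Fintype.card Ω := by
      rw [← Fintype.card_prod, ← Nat.card_eq_fintype_card]
      refine Nat.card_le_card_of_injective (fun x : H => ((x : Perm Ω) a, (x : Perm Ω) ((v : Perm Ω) a))) ?_
      intro x y hxy
      obtain ⟨h1, h2⟩ := Prod.mk.inj hxy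
      set z : Perm Ω := (x : Perm Ω)⁻¹ * y with hz
      have hzH : z ∈ H := H.mul_mem (H.inv_mem x.2) y.2
      have hza : z a = a := by
        change (x : Perm Ω)⁻¹ ((y : Perm Ω) a) = a
        rw [← h1]
        exact (x : Perm Ω).symm_apply_apply a
      have hzb : z ((v : Perm Ω) a) = (v : Perm Ω) a := by
        change (x : Perm Ω)⁻¹ ((y : Perm Ω) ((v : Perm Ω) a)) = _
        rw [← h2]
        exact (x : Perm Ω).symm_apply_apply _
      have hzv : z * v * z⁻¹ = v := by
        have h3 : z⁻¹ a = a := by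
          have := z.symm_apply_apply a
          rw [hza] at this
          exact this
        have h4 := (pt htr hfree a).injective (a₁ := ⟨z * v * z⁻¹, hVH z hzH v v.2⟩) (a₂ := v) (by
          rw [pt_apply, pt_apply]
          change z ((v : Perm Ω) (z⁻¹ a)) = _
          rw [h3, hzb])
        exact congrArg Subtype.val h4
      have hzv' : z * v = v * z := mul_inv_eq_iff_eq_mul.1 hzv
      have hz1 : z = 1 := by
        ext w
        obtain ⟨u, hu, rfl⟩ := htr a w
        obtain ⟨n, rfl⟩ := hgen u hu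
        have h5 : Commute z ((v : Perm Ω) ^ n) := (show Commute z (v : Perm Ω) from hzv').zpow_right n
        change z (((v : Perm Ω) ^ n) a) = ((v : Perm Ω) ^ n) a
        have h6 : z (((v : Perm Ω) ^ n) a) = ((v : Perm Ω) ^ n) (z a) := congrArg (fun f : Perm Ω => f a) h5
        rw [h6, hza]
      have h7 : (x : Perm Ω) = y := inv_mul_eq_one.1 (by rw [← hz]; exact hz1)
      exact Subtype.ext h7
    have hge : (Fintype.card Ω).choose 3 ≤ Nat.card H := by
      have h1 : Nat.card (Set.powersetCard Ω 3) = (Fintype.card Ω).choose 3 := by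
        rw [Set.powersetCard.card, Nat.card_eq_fintype_card]
      rw [← h1]
      have := h.hom
      refine Nat.card_le_card_of_surjective (fun x : H => x • (⟨Γ, h.cardΓ⟩ : Set.powersetCard Ω 3)) ?_
      intro s
      exact this.exists_smul_eq _ s
    have h3 := Nat.descFactorial_eq_factorial_mul_choose (Fintype.card Ω) 3
    obtain ⟨j, hj⟩ := Nat.exists_eq_add_of_le hm
    rw [hj] at h3 hge hle
    have h4 : (30 + j).descFactorial 3 = (30 + j) * (29 + j) * (28 + j) := by
      simp only [Nat.descFactorial]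
      have e1 : 30 + j - 2 = 28 + j := by omega
      have e2 : 30 + j - 1 = 29 + j := by omega
      rw [e1, e2]; simp; ring
    rw [h4] at h3
    have h5 : Nat.factorial 3 = 6 := rfl
    rw [h5] at h3
    nlinarith
  have hk2 : k = 2 := by
    have := h.pos
    omega
  refine ⟨hk2, hprime, ?_⟩
  have hm1 : (-1 : ZMod r) ≠ 0 := neg_ne_zero.2 one_ne_zero
  set τ : W ≃ₗ[ZMod r] W := LinearEquiv.smulOfNeZero (ZMod r) (W) (-1 : ZMod r) hm1 with hτ
  have hττ : τ * τ = 1 := by
    apply LinearEquiv.ext
    intro v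
    change (-1 : ZMod r) • (-1 : ZMod r) • v = v
    rw [smul_smul, neg_one_mul, neg_neg, one_smul]
  refine ⟨ψ τ, by rw [← map_mul, hττ, map_one], ⟨a, fun x => ?_⟩, fun hG => hHn _ (hat_mem htr hfree a (tm τ)) hG⟩
  obtain ⟨u, hu⟩ := q.surjective x
  rw [← hu, hψ, q.injective.eq_iff]
  constructor
  · intro h2
    have h4 : (-1 : ZMod r) • u = u := h2
    have h5 : (2 : ZMod r) • u = 0 := by
      have h6 : (2 : ZMod r) = 1 - (-1) := by norm_num
      rw [h6, sub_smul, one_smul, h4, sub_self]
    have h2' : (2 : ZMod r) ≠ 0 := by exact_mod_cast hne 2 (by norm_num) (by norm_num)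
    have h7 : u = 0 := by
      rcases smul_eq_zero.1 h5 with h8 | h8
      · exact absurd h8 h2'
      · exact h8
    rw [h7, hq0]
  · intro hx
    have h3 : u = 0 := q.injective (by rw [hx, hq0])
    rw [h3, map_zero]

end affine

end Cfsg.Agent.H454.Reg.Alt
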