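import Cfsg.Agent.H454.Reg.Alt.Frame

/-!
# S3691, alternating socle: the structure of `B` in Case II, `k = 2, 3`
-/

set_option autoImplicit false

namespace Cfsg.Agent.H454.Reg.Alt

open Equiv MulAction Subgroup
open scoped Pointwise

universe u

section inv

variable {Ω : Type u} [Fintype Ω] [DecidableEq Ω]

theorem cycleType_inv {x : Perm Ω} (hx : x * x = 1) : x.cycleType = Multiset.replicate (x.support.card / 2) 2 := by
  have h1 : ∀ c ∈ x.cycleType, c = 2 := Perm.pow_prime_eq_one_iff.1 (by rw [pow_two]; exact hx)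
  have h2 : x.cycleType = Multiset.replicate x.cycleType.card 2 := Multiset.eq_replicate.2 ⟨rfl, h1⟩
  have h3 : x.cycleType.sum = x.support.card := Perm.sum_cycleType x
  have h4 : x.cycleType.card = x.support.card / 2 := by
    rw [h2, Multiset.sum_replicate, smul_eq_mul] at h3
    omega
  rw [← h4]; exact h2

theorem sign_inv {x : Perm Ω} (hx : x * x = 1) : Perm.sign x = (-1) ^ (x.support.card / 2) := by
  have h3 : x.cycleType.sum = x.support.card := Perm.sum_cycleType x
  have h2 := cycleType_inv hx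
  rw [Perm.sign_of_cycleType, h2, Multiset.sum_replicate, Multiset.card_replicate, smul_eq_mul, pow_add, pow_mul',
    neg_one_sq, one_pow, one_mul]

theorem even_support_inv {x : Perm Ω} (hx : x * x = 1) : 2 ∣ x.support.card := by
  have h3 : x.cycleType.sum = x.support.card := Perm.sum_cycleType x
  rw [cycleType_inv hx, Multiset.sum_replicate, smul_eq_mul] at h3
  exact ⟨_, by rw [← h3, mul_comm]⟩

/-- involutions with supports of the same size are conjugate under the alternating group -/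
theorem conj_inv {x y : Perm Ω} (hx : x * x = 1) (hy : y * y = 1) (hxy : x.support.card = y.support.card) (hx1 : x ≠ 1) :
    ∃ g ∈ alternatingGroup Ω, g * x * g⁻¹ = y := by
  have h1 : IsConj x y := by
    rw [Perm.isConj_iff_cycleType_eq, cycleType_inv hx, cycleType_inv hy, hxy]
  obtain ⟨g, hg⟩ := isConj_iff.1 h1
  rcases Int.units_eq_one_or (Perm.sign g) with h2 | h2
  · exact ⟨g, Perm.mem_alternatingGroup.2 h2, hg⟩
  · obtain ⟨u, hu⟩ : ∃ u, x u ≠ u := by
      by_contra hcon
      push Not at hcon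
      exact hx1 (Perm.ext hcon)
    have hxx : x (x u) = u := congrArg (fun f : Perm Ω => f u) hx
    have hs : x * swap u (x u) = swap u (x u) * x := by
      rw [mul_swap_eq_swap_mul, hxx, swap_comm]
    refine ⟨g * swap u (x u), ?_, ?_⟩
    · rw [Perm.mem_alternatingGroup, map_mul, h2, Perm.sign_swap (Ne.symm hu)]; rfl
    · have h3 : g * swap u (x u) * x * (g * swap u (x u))⁻¹ = g * (swap u (x u) * x * (swap u (x u))⁻¹) * g⁻¹ := by group
      rw [h3, ← hs, mul_inv_cancel_right, hg]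

/-- involutions with `n` transpositions -/
theorem exists_inv {n : ℕ} (hn : 2 * n ≤ Fintype.card Ω) : ∃ x : Perm Ω, x * x = 1 ∧ x.support.card = 2 * n := by
  obtain ⟨x, hx⟩ := (Perm.exists_with_cycleType_iff Ω (m := Multiset.replicate n 2)).2 ⟨by
    rw [Multiset.sum_replicate, smul_eq_mul, mul_comm]; exact hn, fun a ha => by
    rw [Multiset.eq_of_mem_replicate ha]⟩
  refine ⟨x, ?_, ?_⟩
  · rw [← pow_two, Perm.pow_prime_eq_one_iff, hx]
    exact fun c hc => Multiset.eq_of_mem_replicate hc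
  · rw [← Perm.sum_cycleType, hx, Multiset.sum_replicate, smul_eq_mul, mul_comm]

end inv

section struct

variable {Ω : Type u} [Fintype Ω] [DecidableEq Ω] {G H B : Subgroup (Perm Ω)} {Γ : Finset Ω} {k : ℕ}

theorem Pre.le_stab (h : Pre G H B Γ k) : B ≤ Alt.stab Γ := fun b hb => mem_stab_of (h.stab b hb)

theorem Two.card_compl (h : Two G H B Γ k) : Fintype.card {x // x ∉ Γ} = Fintype.card Ω - k := by
  rw [Fintype.card_subtype_compl, Fintype.card_coe, h.cardΓ]

/-- no involution of `H` has the same number of transpositions as an involution of `B` -/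
theorem Two.no_inv (h : Two G H B Γ k) {x y : Perm Ω} (hx : x ∈ H) (hy : y ∈ B) (hx2 : x * x = 1) (hy2 : y * y = 1)
    (hxy : x.support.card = y.support.card) : x = 1 := by
  by_contra hx1
  obtain ⟨g, hg, hgx⟩ := conj_inv hx2 hy2 hxy hx1
  exact hx1 (h.not_conj hx (h.alt hg) (by rw [hgx]; exact hy))

/-- odd permutations in `G`: then `G` is everything -/
theorem PEx.mem_of_odd (h : PEx G H B) {κ : Perm Ω} (hκ : κ ∈ G) (hodd : Perm.sign κ = -1) (x : Perm Ω) : x ∈ G := by
  rcases Int.units_eq_one_or (Perm.sign x) with h1 | h1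
  · exact h.alt (Perm.mem_alternatingGroup.2 h1)
  · have h2 : x * κ ∈ G := h.alt (Perm.mem_alternatingGroup.2 (by rw [map_mul, h1, hodd]; rfl))
    have h3 := G.mul_mem h2 (G.inv_mem hκ)
    rwa [mul_inv_cancel_right] at h3

/-- the elements of `B` which fix the complement of `Γ` pointwise are `1` or transpositions -/
theorem Two.kernel (h : Two G H B Γ k) (hk : k ≤ 3) (h3 : k = 3 → 3 ∣ Nat.card H) {κ : Perm Ω} (hκ : κ ∈ B)
    (hfix : ∀ x, x ∉ Γ → κ x = x) : κ = 1 ∨ κ.IsSwap := by
  classical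
  have hm := h.deg
  by_contra hcon
  rw [not_or] at hcon
  obtain ⟨hκ1, hκs⟩ := hcon
  have hsub : κ.support ⊆ Γ := by
    intro x hx
    by_contra h1
    exact (Perm.mem_support.1 hx) (hfix x h1)
  have hc1 := Perm.two_le_card_support_of_ne_one hκ1
  have hc2 : κ.support.card ≠ 2 := fun h1 => hκs (Perm.card_support_eq_two.1 h1)
  have hc3 := Finset.card_le_card hsub
  rw [h.cardΓ] at hc3
  have hk3 : k = 3 := by omega
  have hsup : κ.support = Γ := Finset.eq_of_subset_of_card_le hsub (by rw [h.cardΓ]; omega)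
  have hthree : κ.IsThreeCycle := card_support_eq_three_iff.1 (by rw [hsup, h.cardΓ, hk3])
  -- an element of order three in `H`
  have := Fact.mk Nat.prime_three
  obtain ⟨⟨x, hxH⟩, hx⟩ := exists_prime_orderOf_dvd_card' 3 (h3 hk3)
  have hx3 : x ^ 3 = 1 := by
    have h1 : (⟨x, hxH⟩ : H) ^ 3 = 1 := by rw [← hx]; exact pow_orderOf_eq_one _
    exact congrArg Subtype.val h1
  have hx1 : x ≠ 1 := by
    rintro rfl
    have h1 : orderOf (⟨1, hxH⟩ : H) = 1 := orderOf_eq_one_iff.2 rfl
    rw [h1] at hx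
    omega
  have hxe : Perm.sign x = 1 := by
    have h1 : Perm.sign x ^ 3 = 1 := by rw [← map_pow, hx3, map_one]
    rcases Int.units_eq_one_or (Perm.sign x) with h2 | h2
    · exact h2
    · rw [h2] at h1
      exact absurd h1 (by decide)
  obtain ⟨u, hu⟩ : ∃ u, x u ≠ u := by
    by_contra hcon
    push Not at hcon
    exact hx1 (Perm.ext hcon)
  have hxxx : x (x (x u)) = u := congrArg (fun f : Perm Ω => f u) hx3
  have hu2 : x (x u) ≠ x u := fun h1 => hu (x.injective h1)
  have hu3 : x (x u) ≠ u := by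
    intro h1
    rw [h1] at hxxx
    exact hu hxxx
  obtain ⟨g, hg, hgs⟩ := trans_alt (s := {u, x u, x (x u)}) (t := Γ) (by
    rw [h.cardΓ, hk3, Finset.card_eq_three.2 ⟨u, x u, x (x u), hu.symm, hu3.symm, hu2.symm, rfl⟩]) (by
    rw [Finset.card_eq_three.2 ⟨u, x u, x (x u), hu.symm, hu3.symm, hu2.symm, rfl⟩]; omega)
  have hgs1 : g u ∈ Γ := hgs u (by simp)
  have hgs2 : g (x u) ∈ Γ := hgs _ (by simp)
  have hgs3 : g (x (x u)) ∈ Γ := hgs _ (by simp)
  have hΓ : Γ = {g u, g (x u), g (x (x u))} := by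
    symm
    apply Finset.eq_of_subset_of_card_le
    · intro y hy
      simp only [Finset.mem_insert, Finset.mem_singleton] at hy
      rcases hy with rfl | rfl | rfl
      · exact hgs1
      · exact hgs2
      · exact hgs3
    · rw [h.cardΓ, hk3, Finset.card_eq_three.2 ⟨_, _, _, fun h1 => hu.symm (g.injective h1),
        fun h1 => hu3.symm (g.injective h1), fun h1 => hu2.symm (g.injective h1), rfl⟩]
  set y : Perm Ω := g * x * g⁻¹ with hy
  have e : ∀ w, y (g w) = g (x w) := by
    intro w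
    change g (x (g⁻¹ (g w))) = g (x w)
    have : g⁻¹ (g w) = w := g.symm_apply_apply w
    rw [this]
  have hyΓ : ∀ w ∈ Γ, y w ∈ Γ := by
    intro w hw
    rw [hΓ] at hw
    simp only [Finset.mem_insert, Finset.mem_singleton] at hw
    rcases hw with rfl | rfl | rfl
    · rw [e]; exact hgs2
    · rw [e]; exact hgs3
    · rw [e, hxxx]; exact hgs1
  have hys : y ∈ Alt.stab Γ := mem_stab_of hyΓ
  have hκs' : κ ∈ Alt.stab Γ := h.le_stab hκ
  have hy3 : y ^ 3 = 1 := by rw [hy, conj_pow, hx3, mul_one, mul_inv_cancel]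
  have hye : Perm.sign y = 1 := by rw [hy, map_mul, map_mul, hxe, mul_one, ← map_mul, mul_inv_cancel, map_one]
  -- the restrictions to `Γ`
  have hcardA : Nat.card (alternatingGroup {z // z ∈ Γ}) = 3 := by
    have hnt : Nontrivial {z // z ∈ Γ} := by
      rw [← Fintype.one_lt_card_iff_nontrivial, Fintype.card_coe, h.cardΓ]; omega
    have h1 := two_mul_card_alternatingGroup (α := {z // z ∈ Γ})
    rw [Fintype.card_perm, Fintype.card_coe, h.cardΓ, hk3] at h1
    have h2 : Nat.factorial 3 = 6 := rfl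
    rw [Nat.card_eq_fintype_card]; omega
  have hyA : resIn Γ ⟨y, hys⟩ ∈ alternatingGroup {z // z ∈ Γ} := by
    rw [Perm.mem_alternatingGroup]
    have h1 : Perm.sign (resIn Γ ⟨y, hys⟩) ^ 3 = 1 := by
      rw [← map_pow, ← map_pow]
      have : (⟨y, hys⟩ : Alt.stab Γ) ^ 3 = 1 := Subtype.ext hy3
      rw [this, map_one, map_one]
    rcases Int.units_eq_one_or (Perm.sign (resIn Γ ⟨y, hys⟩)) with h2 | h2
    · exact h2
    · rw [h2] at h1
      exact absurd h1 (by decide)
  have hκA : resIn Γ ⟨κ, hκs'⟩ ∈ alternatingGroup {z // z ∈ Γ} := by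
    rw [Perm.mem_alternatingGroup, ← hthree.sign]
    have h8 := Perm.sign_subtypePerm κ (fun z => hκs' z) fun z hz => by
      by_contra h1
      exact hz (hfix z h1)
    convert h8
    rfl
  have hκne : (⟨resIn Γ ⟨κ, hκs'⟩, hκA⟩ : alternatingGroup {z // z ∈ Γ}) ≠ 1 := by
    intro h1
    have h2 : resIn Γ ⟨κ, hκs'⟩ = 1 := congrArg Subtype.val h1
    apply hκ1
    ext z
    by_cases hz : z ∈ Γ
    · exact congrArg (fun f : Perm {z // z ∈ Γ} => ((f ⟨z, hz⟩ : {z // z ∈ Γ}) : Ω)) h2
    · exact hfix z hz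
  have hz : zpowers (⟨resIn Γ ⟨κ, hκs'⟩, hκA⟩ : alternatingGroup {z // z ∈ Γ}) = ⊤ :=
    zpowers_eq_top_of_prime_card hcardA hκne
  have h4 : (⟨resIn Γ ⟨y, hys⟩, hyA⟩ : alternatingGroup {z // z ∈ Γ}) ∈
      zpowers (⟨resIn Γ ⟨κ, hκs'⟩, hκA⟩ : alternatingGroup {z // z ∈ Γ}) := by rw [hz]; trivial
  obtain ⟨n, hn⟩ := h4
  have h5 : resIn Γ ⟨κ ^ n, (Alt.stab Γ).zpow_mem hκs' n⟩ = resIn Γ ⟨y, hys⟩ := by
    have h6 := congrArg Subtype.val hn
    have h7 : (resIn Γ ⟨κ, hκs'⟩) ^ n = resIn Γ ⟨y, hys⟩ := h6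
    rw [← h7, ← map_zpow]
    rfl
  -- `y κ ^ (-n)` is in `B`
  have h6 : (κ ^ n)⁻¹ * y ∈ B := by
    apply h.alt_le
    · rw [Perm.mem_alternatingGroup, map_mul, hye, mul_one, map_inv, map_zpow, hthree.sign, one_zpow, inv_one]
    · intro z hz
      have h7 := congrArg (fun f : Perm {z // z ∈ Γ} => ((f ⟨z, hz⟩ : {z // z ∈ Γ}) : Ω)) h5
      have h8 : (κ ^ n) z = y z := h7
      change (κ ^ n)⁻¹ (y z) = z
      rw [← h8]
      exact (κ ^ n).symm_apply_apply z
  have h7 : y ∈ B := by
    have := B.mul_mem (B.zpow_mem hκ n) h6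
    rwa [mul_inv_cancel_left] at this
  exact hx1 (h.not_conj hxH (h.alt hg) h7)

/-- the restriction of `B` to the complement of `Γ` -/
def Pre.rho (h : Pre G H B Γ k) : B →* Perm {x // x ∉ Γ} := (res Γ).comp (Subgroup.inclusion h.le_stab)

theorem Pre.rho_apply (h : Pre G H B Γ k) (b : B) (x : {x // x ∉ Γ}) : ((h.rho b x : {x // x ∉ Γ}) : Ω) = (b : Perm Ω) x := rfl

omit [Fintype Ω] in
theorem ofSubtype_fix {Γ : Finset Ω} (σ : Perm {x // x ∉ Γ}) (x : Ω) (hx : x ∈ Γ) : Perm.ofSubtype σ x = x :=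
  Perm.ofSubtype_apply_of_not_mem _ (not_not.2 hx)

theorem Two.ofSubtype_mem (h : Two G H B Γ k) {σ : Perm {x // x ∉ Γ}} (hσ : σ ∈ alternatingGroup {x // x ∉ Γ}) :
    Perm.ofSubtype σ ∈ B :=
  h.alt_le _ (by rw [Perm.mem_alternatingGroup, Perm.sign_ofSubtype]; exact hσ) (ofSubtype_fix σ)

theorem Pre.rho_ofSubtype (h : Pre G H B Γ k) {σ : Perm {x // x ∉ Γ}} (hσ : Perm.ofSubtype σ ∈ B) :
    h.rho ⟨Perm.ofSubtype σ, hσ⟩ = σ := by
  ext x
  rw [h.rho_apply]
  exact Perm.ofSubtype_apply_coe σ x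

/-- `B` restricted to the complement of `Γ` is the alternating or the symmetric group -/
theorem Two.rho_range (h : Two G H B Γ k) : h.rho.range = alternatingGroup {x // x ∉ Γ} ∨ h.rho.range = ⊤ := by
  have hle : alternatingGroup {x // x ∉ Γ} ≤ h.rho.range := fun σ hσ =>
    ⟨⟨_, h.ofSubtype_mem hσ⟩, h.rho_ofSubtype _⟩
  by_cases h1 : h.rho.range ≤ alternatingGroup {x // x ∉ Γ}
  · exact Or.inl (le_antisymm h1 hle)
  · right
    obtain ⟨τ, hτ, hτ'⟩ := SetLike.not_le_iff_exists.1 h1
    rw [eq_top_iff]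
    intro σ _
    rw [Perm.mem_alternatingGroup] at hτ'
    have hτs := (Int.units_eq_one_or (Perm.sign τ)).resolve_left hτ'
    rcases Int.units_eq_one_or (Perm.sign σ) with h2 | h2
    · exact hle (Perm.mem_alternatingGroup.2 h2)
    · have h3 : σ * τ ∈ h.rho.range := hle (Perm.mem_alternatingGroup.2 (by rw [map_mul, h2, hτs]; rfl))
      have h4 := h.rho.range.mul_mem h3 (h.rho.range.inv_mem hτ)
      rwa [mul_inv_cancel_right] at h4

theorem Pre.ker_fix (h : Pre G H B Γ k) {b : B} (hb : h.rho b = 1) : ∀ x, x ∉ Γ → (b : Perm Ω) x = x := fun x hx =>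
  congrArg (fun f : Perm {x // x ∉ Γ} => ((f ⟨x, hx⟩ : {x // x ∉ Γ}) : Ω)) hb

/-- the support of an element which splits -/
theorem card_support_mul_of {Γ : Finset Ω} {σ : Perm {x // x ∉ Γ}} {κ : Perm Ω} (hκ : ∀ x, x ∉ Γ → κ x = x) :
    (Perm.ofSubtype σ * κ).support.card = σ.support.card + κ.support.card ∧ Commute (Perm.ofSubtype σ) κ := by
  have hdis : (Perm.ofSubtype σ).Disjoint κ := by
    intro x
    by_cases hx : x ∈ Γ
    · exact Or.inl (ofSubtype_fix σ x hx)
    · exact Or.inr (hκ x hx)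
  refine ⟨?_, hdis.commute⟩
  rw [hdis.card_support_mul, ← Perm.sum_cycleType (Perm.ofSubtype σ), Perm.cycleType_ofSubtype, Perm.sum_cycleType]

/-- the degree of the complement of `Γ` -/
theorem Two.equivFin (h : Two G H B Γ k) {n : ℕ} (hn : Fintype.card Ω = n + k) : Nonempty ({x // x ∉ Γ} ≃ Fin n) :=
  ⟨Fintype.equivFinOfCardEq (by rw [h.card_compl, hn]; omega)⟩

theorem Two.equiv_alt (h : Two G H B Γ k) {n : ℕ} (hn : Fintype.card Ω = n + k) (hinj : Function.Injective h.rho)
    (hr : h.rho.range = alternatingGroup {x // x ∉ Γ}) : Nonempty (B ≃* alternatingGroup (Fin n)) := by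
  obtain ⟨e⟩ := h.equivFin hn
  exact ⟨(MonoidHom.ofInjective hinj).trans ((MulEquiv.subgroupCongr hr).trans (Equiv.altCongrHom e))⟩

theorem Two.equiv_perm (h : Two G H B Γ k) {n : ℕ} (hn : Fintype.card Ω = n + k) (hinj : Function.Injective h.rho)
    (hr : h.rho.range = ⊤) : Nonempty (B ≃* Perm (Fin n)) := by
  obtain ⟨e⟩ := h.equivFin hn
  exact ⟨(MonoidHom.ofInjective hinj).trans ((MulEquiv.subgroupCongr hr).trans
    (Subgroup.topEquiv.trans e.permCongrHom))⟩

theorem Two.exists_swap (h : Two G H B Γ k) (hk : k ≤ 3) (h3 : k = 3 → 3 ∣ Nat.card H) (hinj : ¬ Function.Injective h.rho) :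
    ∃ κ : B, h.rho κ = 1 ∧ (κ : Perm Ω).IsSwap := by
  rw [injective_iff_map_eq_one] at hinj
  push Not at hinj
  obtain ⟨b, hb, hb1⟩ := hinj
  refine ⟨b, hb, ?_⟩
  rcases h.kernel hk h3 b.2 (h.ker_fix hb) with h1 | h1
  · exact absurd (Subtype.ext h1) hb1
  · exact h1

omit [Fintype Ω] in
theorem swap_sq {κ : Perm Ω} (h : κ.IsSwap) : κ * κ = 1 := by
  obtain ⟨u, v, -, rfl⟩ := h
  exact swap_mul_self u v

omit [Fintype Ω] [DecidableEq Ω] in
theorem sq_of_comm {a b : Perm Ω} (h : Commute a b) (ha : a * a = 1) (hb : b * b = 1) : a * b * (a * b) = 1 := by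
  have h1 := h.mul_pow 2
  rw [pow_two, pow_two, pow_two, ha, hb, one_mul] at h1
  exact h1

/-- **Conclusion, prime case.** -/
theorem Two.concl_prime (h : Two G H B Γ k) (hk : k = 2 ∨ k = 3) {p : ℕ} (hp : p.Prime)
    (hn : Fintype.card Ω = p - 2 + k) (h3 : k = 3 → 3 ∣ Nat.card H) {ι : Perm Ω} (hι2 : ι * ι = 1)
    (hιs : ι.support.card = p - 1) (hιG : ι ∈ G → ι ∈ H) : Concl B := by
  classical
  have hm := h.deg
  have hk3 : k ≤ 3 := by omega
  right; right; left
  refine ⟨p, hp, ?_⟩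
  by_cases hinj : Function.Injective h.rho
  · rcases h.rho_range with h1 | h1
    · exact Or.inl (h.equiv_alt hn hinj h1)
    · exact Or.inr (Or.inl (h.equiv_perm hn hinj h1))
  · right; right
    obtain ⟨κ, hκρ, hκs⟩ := h.exists_swap hk3 h3 hinj
    have hκsign : Perm.sign (κ : Perm Ω) = -1 := hκs.sign_eq
    have hκ2 : (κ : Perm Ω) * κ = 1 := swap_sq hκs
    have hκfix := h.ker_fix hκρ
    have hGall : ∀ x : Perm Ω, x ∈ G := h.mem_of_odd (h.bG κ.2) hκsign
    have hιH : ι ∈ H := hιG (hGall ι)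
    have hp29 : 29 ≤ p := by omega
    have hpodd : p % 2 = 1 := Nat.odd_iff.1 (hp.odd_of_ne_two (by omega))
    have hι1 : ι ≠ 1 := by
      rintro rfl
      rw [Perm.support_one, Finset.card_empty] at hιs
      omega
    -- the elements of the kernel
    have hK0 : ∀ b : B, h.rho b = 1 → b = 1 ∨ b = κ := by
      intro b hb
      by_cases hb1 : b = 1
      · exact Or.inl hb1
      right
      have hbs : (b : Perm Ω).IsSwap := (h.kernel hk3 h3 b.2 (h.ker_fix hb)).resolve_left fun h1 => hb1 (Subtype.ext h1)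
      have h1 : h.rho (b * κ) = 1 := by rw [map_mul, hb, hκρ, one_mul]
      rcases h.kernel hk3 h3 (b * κ).2 (h.ker_fix h1) with h2 | h2
      · have h4 : (b : Perm Ω) * κ = 1 := h2
        have h5 : (b : Perm Ω) = κ := by
          calc (b : Perm Ω) = b * (κ * κ) := by rw [hκ2, mul_one]
            _ = (b * κ) * κ := by rw [mul_assoc]
            _ = κ := by rw [h4, one_mul]
        exact Subtype.ext h5
      · exfalso
        have h4 := h2.sign_eq
        have h5 : Perm.sign ((b : Perm Ω) * (κ : Perm Ω)) = 1 := by rw [map_mul, hbs.sign_eq, hκsign]; rfl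
        have h6 : ((b * κ : B) : Perm Ω) = (b : Perm Ω) * κ := rfl
        rw [h6, h5] at h4
        exact absurd h4 (by decide)
    -- no `a` in `B`
    have hcardΔ : Fintype.card {x // x ∉ Γ} = p - 2 := by rw [h.card_compl, hn]; omega
    have hκsup : (κ : Perm Ω).support.card = 2 := Perm.card_support_eq_two.2 hκs
    have hnoA : ∀ a : Perm {x // x ∉ Γ}, a * a = 1 → a.support.card = p - 3 → Perm.ofSubtype a ∉ B := by
      intro a ha2 has haB
      obtain ⟨h1, h2⟩ := card_support_mul_of (σ := a) hκfix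
      refine hι1 (h.no_inv hιH (B.mul_mem haB κ.2) hι2 ?_ ?_)
      · exact sq_of_comm h2 (by rw [← map_mul, ha2, map_one]) hκ2
      · rw [h1, has, hκsup, hιs]; omega
    obtain ⟨a, ha2, has⟩ := exists_inv (Ω := {x // x ∉ Γ}) (n := (p - 3) / 2) (by rw [hcardΔ]; omega)
    have has' : a.support.card = p - 3 := by rw [has]; omega
    have hasign : Perm.sign a = -1 := by
      rcases Int.units_eq_one_or (Perm.sign a) with h1 | h1
      · exact absurd (h.ofSubtype_mem (Perm.mem_alternatingGroup.2 h1)) (hnoA a ha2 has')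
      · exact h1
    have hp4 : p % 4 = 1 := by
      rw [sign_inv ha2, has'] at hasign
      rcases Nat.even_or_odd ((p - 3) / 2) with h1 | h1
      · rw [h1.neg_one_pow] at hasign
        exact absurd hasign (by decide)
      · obtain ⟨j, hj⟩ := h1
        omega
    refine ⟨hp4, ?_⟩
    -- `B` commutes with `κ`
    have hcomm : ∀ b : B, (b : Perm Ω) * κ = κ * b := by
      intro b
      have h1 : h.rho (b * κ * b⁻¹) = 1 := by rw [map_mul, map_mul, hκρ, mul_one, map_inv, mul_inv_cancel]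
      rcases hK0 _ h1 with h2 | h2
      · exfalso
        have h4 : κ = 1 := by
          have h5 : b * κ = b := mul_inv_eq_one.1 h2
          exact mul_eq_left.1 h5
        rw [h4] at hκsign
        exact absurd hκsign (by rw [Subgroup.coe_one, map_one]; decide)
      · have h4 : b * κ = κ * b := mul_inv_eq_iff_eq_mul.1 h2
        exact congrArg Subtype.val h4
    obtain ⟨u, v, huv, hκuv⟩ := id hκs
    have huΓ : u ∈ Γ := by
      by_contra h1
      have h2 := hκfix u h1
      rw [hκuv, swap_apply_left] at h2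
      exact huv h2.symm
    have hvΓ : v ∈ Γ := by
      by_contra h1
      have h2 := hκfix v h1
      rw [hκuv, swap_apply_right] at h2
      exact huv h2
    have hsplit : ∀ b : B, (∀ x ∈ Γ, (b : Perm Ω) x = x) ∨ (∀ x ∈ Γ, ((b : Perm Ω) * κ) x = x) := by
      intro b
      have hbc : ∀ x, (b : Perm Ω) ((κ : Perm Ω) x) = (κ : Perm Ω) ((b : Perm Ω) x) := fun x =>
        congrArg (fun f : Perm Ω => f x) (hcomm b)
      -- the other points of `Γ` are fixed
      have hoth : ∀ x ∈ Γ, x ≠ u → x ≠ v → (b : Perm Ω) x = x := by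
        intro x hx hxu hxv
        have h1 := hbc x
        rw [hκuv, swap_apply_of_ne_of_ne hxu hxv] at h1
        have h2 : (b : Perm Ω) x ≠ u := by
          intro h4
          rw [h4, swap_apply_left] at h1
          exact huv h1
        have h4 : (b : Perm Ω) x ≠ v := by
          intro h4
          rw [h4, swap_apply_right] at h1
          exact huv h1.symm
        by_contra h5
        have h6 : ({u, v, x, (b : Perm Ω) x} : Finset Ω) ⊆ Γ := by
          intro y hy
          simp only [Finset.mem_insert, Finset.mem_singleton] at hy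
          rcases hy with rfl | rfl | rfl | rfl
          · exact huΓ
          · exact hvΓ
          · exact hx
          · exact h.stab b b.2 x hx
        have h7 := Finset.card_le_card h6
        rw [h.cardΓ, Finset.card_insert_of_notMem (by
          simp only [Finset.mem_insert, Finset.mem_singleton, not_or]
          exact ⟨huv, hxu.symm, h2.symm⟩), Finset.card_insert_of_notMem (by
          simp only [Finset.mem_insert, Finset.mem_singleton, not_or]
          exact ⟨hxv.symm, h4.symm⟩), Finset.card_pair (Ne.symm h5)] at h7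
        omega
      have hbu : (b : Perm Ω) u = u ∨ (b : Perm Ω) u = v := by
        by_contra hcon
        rw [not_or] at hcon
        have h1 := hbc u
        rw [hκuv, swap_apply_left, swap_apply_of_ne_of_ne hcon.1 hcon.2] at h1
        exact huv ((b : Perm Ω).injective h1).symm
      rcases hbu with hbu | hbu
      · left
        have hbv : (b : Perm Ω) v = v := by
          have h1 := hbc u
          rw [hκuv, swap_apply_left, hbu, swap_apply_left] at h1
          exact h1
        intro x hx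
        by_cases hxu : x = u
        · rw [hxu]; exact hbu
        by_cases hxv : x = v
        · rw [hxv]; exact hbv
        exact hoth x hx hxu hxv
      · right
        have hbv : (b : Perm Ω) v = u := by
          have h1 := hbc u
          rw [hκuv, swap_apply_left, hbu, swap_apply_right] at h1
          exact h1
        intro x hx
        change (b : Perm Ω) ((κ : Perm Ω) x) = x
        by_cases hxu : x = u
        · rw [hxu, hκuv, swap_apply_left]; exact hbv
        by_cases hxv : x = v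
        · rw [hxv, hκuv, swap_apply_right]; exact hbu
        rw [hκuv, swap_apply_of_ne_of_ne hxu hxv]
        exact hoth x hx hxu hxv
    have heven : ∀ b : B, (∀ x ∈ Γ, (b : Perm Ω) x = x) → Perm.sign (b : Perm Ω) = 1 := by
      intro b hb
      rcases Int.units_eq_one_or (Perm.sign (b : Perm Ω)) with h1 | h1
      · exact h1
      · exfalso
        have h2 : Perm.ofSubtype a * (b : Perm Ω) ∈ B := h.alt_le _ (by
          rw [Perm.mem_alternatingGroup, map_mul, Perm.sign_ofSubtype, hasign, h1]; rfl) (by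
          intro x hx
          change Perm.ofSubtype a ((b : Perm Ω) x) = x
          rw [hb x hx, ofSubtype_fix a x hx])
        have h4 := B.mul_mem h2 (B.inv_mem b.2)
        rw [mul_inv_cancel_right] at h4
        exact hnoA a ha2 has' h4
    have hsignrho : ∀ b : B, (∀ x ∈ Γ, (b : Perm Ω) x = x) → Perm.sign (h.rho b) = Perm.sign (b : Perm Ω) := by
      intro b hb
      exact Perm.sign_subtypePerm (b : Perm Ω) (fun x => not_congr ((h.le_stab b.2) x)) fun x h1 h2 => h1 (hb x h2)
    have hrhoeven : ∀ b : B, h.rho b ∈ alternatingGroup {x // x ∉ Γ} := by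
      intro b
      rw [Perm.mem_alternatingGroup]
      rcases hsplit b with h1 | h1
      · rw [hsignrho b h1, heven b h1]
      · have h2 : h.rho b = h.rho (b * κ) := by rw [map_mul, hκρ, mul_one]
        rw [h2, hsignrho (b * κ) h1, heven (b * κ) h1]
    -- the isomorphism
    let f : B →* alternatingGroup {x // x ∉ Γ} × ℤˣ :=
      (h.rho.codRestrict (alternatingGroup {x // x ∉ Γ}) hrhoeven).prod (Perm.sign.comp B.subtype)
    have hf : Function.Bijective f := by
      constructor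
      · rw [injective_iff_map_eq_one]
        intro b hb
        have h1 : h.rho b = 1 := congrArg (fun z : alternatingGroup {x // x ∉ Γ} × ℤˣ => (z.1 : Perm {x // x ∉ Γ})) hb
        have h2 : Perm.sign (b : Perm Ω) = 1 := congrArg Prod.snd hb
        rcases hK0 b h1 with h4 | h4
        · exact h4
        · rw [h4, hκsign] at h2
          exact absurd h2 (by decide)
      · rintro ⟨σ, ε⟩
        have hσB := h.ofSubtype_mem σ.2
        have hσs : Perm.sign (Perm.ofSubtype (σ : Perm {x // x ∉ Γ})) = 1 := by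
          rw [Perm.sign_ofSubtype]; exact σ.2
        rcases Int.units_eq_one_or ε with rfl | rfl
        · exact ⟨⟨_, hσB⟩, Prod.ext (Subtype.ext (h.rho_ofSubtype hσB)) hσs⟩
        · refine ⟨⟨_, hσB⟩ * κ, Prod.ext (Subtype.ext ?_) ?_⟩
          · change h.rho (⟨_, hσB⟩ * κ) = σ
            rw [map_mul, hκρ, mul_one, h.rho_ofSubtype]
          · change Perm.sign (Perm.ofSubtype (σ : Perm {x // x ∉ Γ}) * (κ : Perm Ω)) = -1
            rw [map_mul, hσs, hκsign, one_mul]
    obtain ⟨e⟩ := h.equivFin hn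
    have := Fact.mk Nat.prime_two
    have e2 : ℤˣ ≃* Multiplicative (ZMod 2) := mulEquivOfPrimeCardEq (p := 2)
      (by rw [Nat.card_eq_fintype_card]; rfl) (by rw [Nat.card_eq_fintype_card]; rfl)
    exact ⟨(MulEquiv.ofBijective f hf).trans (MulEquiv.prodCongr (Equiv.altCongrHom e) e2)⟩

/-- **Conclusion, degree `p² + 1`.** -/
theorem Two.concl_sq (h : Two G H B Γ 3) {p : ℕ} (hp : p.Prime) (hn : Fintype.card Ω = p ^ 2 - 2 + 3)
    (h3 : 3 ∣ Nat.card H) {φ : Perm Ω} (hφ2 : φ * φ = 1) (hφs : φ.support.card = p ^ 2 - p) (hφe : Perm.sign φ = -1)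
    (hφG : φ ∈ G → φ ∈ H) {ι : Perm Ω} (hι2 : ι * ι = 1) (hιs : ι.support.card = p ^ 2 - 1) (hιH : ι ∈ H) : Concl B := by
  classical
  have hm := h.deg
  have hp5 : 5 ≤ p := by
    by_contra hlt
    have : p ^ 2 ≤ 4 ^ 2 := Nat.pow_le_pow_left (by omega) 2
    omega
  have hpodd : p % 2 = 1 := Nat.odd_iff.1 (hp.odd_of_ne_two (by omega))
  have hφ1 : φ ≠ 1 := by
    rintro rfl
    rw [map_one] at hφe
    exact absurd hφe (by decide)
  have hpp : p ^ 2 = p * p := pow_two p
  have h5pp : 5 * p ≤ p * p := Nat.mul_le_mul_right _ hp5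
  have hι1 : ι ≠ 1 := by
    rintro rfl
    rw [Perm.support_one, Finset.card_empty] at hιs
    omega
  -- `p = 3 mod 4`
  have hhalf : ((p ^ 2 - p) / 2) % 2 = 1 := by
    rw [sign_inv hφ2, hφs] at hφe
    rcases Nat.even_or_odd ((p ^ 2 - p) / 2) with h1 | h1
    · rw [h1.neg_one_pow] at hφe
      exact absurd hφe (by decide)
    · exact Nat.odd_iff.1 h1
  have hp4 : p % 4 = 3 := by
    obtain ⟨j, hj⟩ : ∃ j, p = 4 * j + 1 ∨ p = 4 * j + 3 := ⟨p / 4, by omega⟩
    rcases hj with hj | hj
    · exfalso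
      have h1 : p ^ 2 - p = 4 * (j * (4 * j + 1)) := by
        rw [hj]
        have : (4 * j + 1) ^ 2 = 4 * (j * (4 * j + 1)) + (4 * j + 1) := by ring
        omega
      rw [h1] at hhalf
      omega
    · omega
  obtain ⟨j, hj⟩ : ∃ j, p = 4 * j + 3 := ⟨p / 4, by omega⟩
  have hsq : p ^ 2 = 8 * (2 * (j * j) + 3 * j + 1) + 1 := by rw [hj]; ring
  have hsqp : p ^ 2 - p = 4 * (4 * (j * j) + 5 * j + 1) + 2 := by
    have : p ^ 2 = 4 * (4 * (j * j) + 5 * j + 1) + 2 + p := by rw [hj]; ring
    omega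
  right; right; right
  refine ⟨p, hp, hp4, ?_⟩
  have hcardΔ : Fintype.card {x // x ∉ Γ} = p ^ 2 - 2 := by rw [h.card_compl, hn]; omega
  have hinj : Function.Injective h.rho := by
    by_contra hinj
    obtain ⟨κ, hκρ, hκs⟩ := h.exists_swap le_rfl (fun _ => h3) hinj
    have hκsup : (κ : Perm Ω).support.card = 2 := Perm.card_support_eq_two.2 hκs
    have hφH : φ ∈ H := hφG (h.mem_of_odd (h.bG κ.2) hκs.sign_eq φ)
    obtain ⟨a, ha2, has⟩ := exists_inv (Ω := {x // x ∉ Γ}) (n := (p ^ 2 - p) / 2 - 1) (by rw [hcardΔ]; omega)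
    have hae : Perm.sign a = 1 := by
      rw [sign_inv ha2, has]
      have : Even (2 * ((p ^ 2 - p) / 2 - 1) / 2) := Nat.even_iff.2 (by omega)
      exact this.neg_one_pow
    obtain ⟨h1, h2⟩ := card_support_mul_of (σ := a) (h.ker_fix hκρ)
    exact hφ1 (h.no_inv hφH (B.mul_mem (h.ofSubtype_mem (Perm.mem_alternatingGroup.2 hae)) κ.2) hφ2
      (sq_of_comm h2 (by rw [← map_mul, ha2, map_one]) (swap_sq hκs)) (by rw [h1, has, hκsup, hφs]; omega))
  refine h.equiv_alt hn hinj (h.rho_range.resolve_right fun htop => ?_)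
  -- an odd involution on the complement
  have key : ∀ σ : Perm {x // x ∉ Γ}, σ * σ = 1 → ∃ (b : B) (c : Perm Ω), h.rho b = σ ∧ (b : Perm Ω) = Perm.ofSubtype σ * c ∧
      (∀ x, x ∉ Γ → c x = x) ∧ (b : Perm Ω) * b = 1 ∧ Commute (Perm.ofSubtype σ) c ∧ c * c = 1 ∧
      (b : Perm Ω).support.card = σ.support.card + c.support.card := by
    intro σ hσ
    obtain ⟨b, hb⟩ : σ ∈ h.rho.range := by rw [htop]; trivial
    have hb2 : b * b = 1 := hinj (by rw [map_mul, hb, hσ, map_one])
    have hb2' : (b : Perm Ω) * b = 1 := congrArg Subtype.val hb2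
    set c : Perm Ω := (Perm.ofSubtype σ)⁻¹ * b with hc
    have hbc : (b : Perm Ω) = Perm.ofSubtype σ * c := by rw [hc, mul_inv_cancel_left]
    have hcfix : ∀ x, x ∉ Γ → c x = x := by
      intro x hx
      have h1 : ((h.rho b ⟨x, hx⟩ : {x // x ∉ Γ}) : Ω) = (b : Perm Ω) x := rfl
      rw [hb] at h1
      have h2 : Perm.ofSubtype σ x = (σ ⟨x, hx⟩ : {x // x ∉ Γ}) := Perm.ofSubtype_apply_of_mem σ hx
      change (Perm.ofSubtype σ)⁻¹ ((b : Perm Ω) x) = x
      rw [← h1, ← h2]
      exact (Perm.ofSubtype σ).symm_apply_apply x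
    obtain ⟨h1, h2⟩ := card_support_mul_of (σ := σ) hcfix
    refine ⟨b, c, hb, hbc, hcfix, hb2', h2, ?_, by rw [hbc]; exact h1⟩
    have h4 : Perm.ofSubtype σ * Perm.ofSubtype σ = 1 := by rw [← map_mul, hσ, map_one]
    have h5 := h2.mul_pow 2
    rw [← hbc, pow_two, pow_two, pow_two, hb2', h4, one_mul] at h5
    exact h5.symm
  obtain ⟨σ, hσ2, hσs⟩ := exists_inv (Ω := {x // x ∉ Γ}) (n := (p ^ 2 - p) / 2) (by rw [hcardΔ]; omega)
  obtain ⟨b, c, hb, hbc, hcfix, hb2, hcomm, hc2, hbs⟩ := key σ hσ2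
  have hc1 : c ≠ 1 := by
    intro h1
    rw [h1, Perm.support_one, Finset.card_empty, add_zero, hσs] at hbs
    have h2 : Perm.sign (b : Perm Ω) = -1 := by
      rw [sign_inv hb2, hbs]
      have : Odd (2 * ((p ^ 2 - p) / 2) / 2) := Nat.odd_iff.2 (by omega)
      exact this.neg_one_pow
    exact hφ1 (h.no_inv (hφG (h.mem_of_odd (h.bG b.2) h2 φ)) b.2 hφ2 hb2 (by rw [hbs, hφs]; omega))
  have hcs : c.support.card = 2 := by
    have h1 : c.support ⊆ Γ := by
      intro x hx
      by_contra h2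
      exact (Perm.mem_support.1 hx) (hcfix x h2)
    have h2 := Finset.card_le_card h1
    rw [h.cardΓ] at h2
    have h4 := Perm.two_le_card_support_of_ne_one hc1
    have h5 := even_support_inv hc2
    omega
  obtain ⟨σ', hσ2', hσs'⟩ := exists_inv (Ω := {x // x ∉ Γ}) (n := (p ^ 2 - 3) / 2) (by rw [hcardΔ]; omega)
  obtain ⟨b', c', hb', hbc', hcfix', hb2', hcomm', hc2', hbs'⟩ := key σ' hσ2'
  have hsσ : Perm.sign σ = -1 := by
    rw [sign_inv hσ2, hσs]
    have : Odd (2 * ((p ^ 2 - p) / 2) / 2) := Nat.odd_iff.2 (by omega)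
    exact this.neg_one_pow
  have hsσ' : Perm.sign σ' = -1 := by
    rw [sign_inv hσ2', hσs']
    have : Odd (2 * ((p ^ 2 - 3) / 2) / 2) := Nat.odd_iff.2 (by omega)
    exact this.neg_one_pow
  have hcc : c = c' := by
    have h1 : Perm.ofSubtype (σ * σ') ∈ B := h.ofSubtype_mem (Perm.mem_alternatingGroup.2 (by
      rw [map_mul, hsσ, hsσ']; rfl))
    have h2 : b * b' = ⟨_, h1⟩ := hinj (by rw [map_mul, hb, hb', h.rho_ofSubtype])
    have h4 : (b : Perm Ω) * b' = Perm.ofSubtype σ * Perm.ofSubtype σ' := by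
      rw [← map_mul]
      exact congrArg Subtype.val h2
    rw [hbc, hbc'] at h4
    -- `c` commutes with `ofSubtype σ'`
    have h5 : Commute (Perm.ofSubtype σ') c := (card_support_mul_of (σ := σ') hcfix).2
    have h6 : Perm.ofSubtype σ * (Perm.ofSubtype σ' * (c * c')) = Perm.ofSubtype σ * (Perm.ofSubtype σ' * 1) := by
      calc Perm.ofSubtype σ * (Perm.ofSubtype σ' * (c * c')) = Perm.ofSubtype σ * ((Perm.ofSubtype σ' * c) * c') := by
            rw [mul_assoc (Perm.ofSubtype σ')]
        _ = Perm.ofSubtype σ * ((c * Perm.ofSubtype σ') * c') := by rw [h5.eq]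
        _ = Perm.ofSubtype σ * c * (Perm.ofSubtype σ' * c') := by simp only [mul_assoc]
        _ = Perm.ofSubtype σ * (Perm.ofSubtype σ' * 1) := by rw [h4, mul_one]
    have h7 : c * c' = 1 := mul_left_cancel (mul_left_cancel h6)
    calc c = c * (c' * c') := by rw [hc2', mul_one]
      _ = c * c' * c' := by rw [mul_assoc]
      _ = c' := by rw [h7, one_mul]
  rw [← hcc, hcs, hσs'] at hbs'
  exact hι1 (h.no_inv hιH b'.2 hι2 hb2' (by rw [hbs', hιs]; omega))

end struct

end Cfsg.Agent.H454.Reg.Alt
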