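import Cfsg.Agent.H454.Reg.Alt.Defs
import Cfsg.Agent.H529.ManyPrimes
import Cfsg.Agent.H454.Reg.Tools
import Cfsg.Agent.H600.KSix.Emb
import Cfsg.Agent.S0713

/-!
# S3691, alternating socle: the frame

* `exists_prime` : a prime `p` with `m/2 < p ≤ m - 6`
* `exists_pex` : the concrete situation `PEx` from `Ex`
* `PEx.dich` : Case I (`B` regular on `k`-sets) or Case II (`Pre`, `Two`)
-/

set_option autoImplicit false

namespace Cfsg.Agent.H454.Reg.Alt

open Equiv MulAction Subgroup
open scoped Pointwise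

universe u

open Cfsg.Agent.H529.ManyPrimes in
/-- for `m ≥ 30` there is a prime `p` with `m < 2 p`, `p + 6 ≤ m` -/
theorem exists_prime {m : ℕ} (hm : 30 ≤ m) : ∃ p : ℕ, p.Prime ∧ m < 2 * p ∧ p + 6 ≤ m := by
  rcases lt_or_ge m 2048 with h | h
  · rcases lt_or_ge m 34 with h1 | h1
    · exact ⟨17, by norm_num, by omega, by omega⟩
    rcases lt_or_ge m 38 with h1 | h1
    · exact ⟨19, by norm_num, by omega, by omega⟩
    rcases lt_or_ge m 62 with h1 | h1
    · exact ⟨31, by norm_num, by omega, by omega⟩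
    rcases lt_or_ge m 106 with h1 | h1
    · exact ⟨53, by norm_num, by omega, by omega⟩
    rcases lt_or_ge m 194 with h1 | h1
    · exact ⟨97, by norm_num, by omega, by omega⟩
    rcases lt_or_ge m 362 with h1 | h1
    · exact ⟨181, by norm_num, by omega, by omega⟩
    rcases lt_or_ge m 698 with h1 | h1
    · exact ⟨349, by norm_num, by omega, by omega⟩
    rcases lt_or_ge m 1382 with h1 | h1
    · exact ⟨691, by norm_num, by omega, by omega⟩
    · exact ⟨1373, by norm_num, by omega, by omega⟩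
  · have h1 := three_le_card (n := m / 2) (by omega)
    have h2 : 2 < (T (m / 2)).card := h1
    rw [Finset.two_lt_card] at h2
    obtain ⟨a, ha, b, hb, c, hc, hab, hac, hbc⟩ := h2
    rw [mem_T] at ha hb hc
    have hoa : a % 2 = 1 := Nat.odd_iff.1 (ha.2.odd_of_ne_two (by omega))
    have hob : b % 2 = 1 := Nat.odd_iff.1 (hb.2.odd_of_ne_two (by omega))
    have hoc : c % 2 = 1 := Nat.odd_iff.1 (hc.2.odd_of_ne_two (by omega))
    have h3 : ∀ x : ℕ, x.Prime → m / 2 < x → x % 3 ≠ 0 := by
      intro x hx hxm h0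
      have := (Nat.prime_dvd_prime_iff_eq Nat.prime_three hx).1 (Nat.dvd_of_mod_eq_zero h0)
      omega
    have h3a := h3 a ha.2 ha.1.1
    have h3b := h3 b hb.2 hb.1.1
    have h3c := h3 c hc.2 hc.1.1
    by_cases h6a : a + 6 ≤ m
    · exact ⟨a, ha.2, by omega, h6a⟩
    by_cases h6b : b + 6 ≤ m
    · exact ⟨b, hb.2, by omega, h6b⟩
    by_cases h6c : c + 6 ≤ m
    · exact ⟨c, hc.2, by omega, h6c⟩
    · have ea : a % 6 = 1 ∨ a % 6 = 5 := by omega
      have eb : b % 6 = 1 ∨ b % 6 = 5 := by omega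
      have ec : c % 6 = 1 ∨ c % 6 = 5 := by omega
      rcases ea with ea | ea <;> rcases eb with eb | eb <;> rcases ec with ec | ec <;> omega

section gen

variable {Ω : Type u} [Fintype Ω] [DecidableEq Ω]

/-- the action of the cyclic group generated by a cycle on its support, and the induced primitivity -/
theorem prim_of_cycle (X : Subgroup (Perm Ω)) (hX : IsPretransitive X Ω) {c : Perm Ω} (hc : c ∈ X) (hcyc : c.IsCycle)
    (hp : c.support.card.Prime) (hlt : Fintype.card Ω < 2 * c.support.card) : IsPreprimitive X Ω := by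
  obtain ⟨a, ha, hall⟩ := id hcyc
  have horb : (orbit (zpowers c) a : Set Ω) = (c.support : Set Ω) := by
    ext x
    rw [mem_orbit_iff]
    constructor
    · rintro ⟨⟨g, k, rfl⟩, rfl⟩
      rw [Finset.mem_coe]
      change (c ^ k) a ∈ c.support
      rw [Perm.zpow_apply_mem_support, Perm.mem_support]
      exact ha
    · intro hx
      obtain ⟨k, hk⟩ := hall (Perm.mem_support.1 (Finset.mem_coe.1 hx))
      exact ⟨⟨c ^ k, k, rfl⟩, hk⟩
  have hcard : Nat.card (orbit (zpowers c) a) = c.support.card := by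
    rw [horb, Nat.card_coe_set_eq, Set.ncard_coe_finset]
  have hprim : IsPreprimitive (zpowers c) (orbit (zpowers c) a) := by
    apply IsPreprimitive.of_prime_card
    rw [hcard]
    exact hp
  let φ : zpowers c → X := fun g => ⟨g, (zpowers_le.2 hc) g.2⟩
  let f : (orbit (zpowers c) a) →ₑ[φ] Ω :=
    { toFun := fun x => x
      map_smul' := fun g x => rfl }
  have hrange : (Set.range f).ncard = c.support.card := by
    have : Set.range f = (c.support : Set Ω) := by
      rw [← horb]
      exact Subtype.range_coe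
    rw [this, Set.ncard_coe_finset]
  refine IsPreprimitive.of_card_lt (φ := φ) (f := f) ?_
  rw [hrange, Nat.card_eq_fintype_card]
  exact hlt

/-- the alternating group moves every finset to every other finset of the same size -/
theorem trans_alt {s t : Finset Ω} (hst : s.card = t.card) (hs : s.card + 2 ≤ Fintype.card Ω) :
    ∃ g ∈ alternatingGroup Ω, ∀ x ∈ s, g x ∈ t := by
  have h1 : IsMultiplyPretransitive (alternatingGroup Ω) Ω (Nat.card Ω - 2) :=
    alternatingGroup.isMultiplyPretransitive Ω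
  have h2 : IsMultiplyPretransitive (alternatingGroup Ω) Ω s.card := by
    apply isMultiplyPretransitive_of_le (n := Nat.card Ω - 2)
    · rw [Nat.card_eq_fintype_card]; omega
    · rw [Nat.card_eq_fintype_card]; omega
  have h3 := Set.powersetCard.isPretransitive_of_isMultiplyPretransitive (alternatingGroup Ω) (α := Ω) h2
  obtain ⟨g, hg⟩ := h3.exists_smul_eq ⟨s, rfl⟩ ⟨t, hst.symm⟩
  refine ⟨g, g.2, fun x hx => ?_⟩
  have h4 : g • s = t := congrArg Subtype.val hg
  rw [← h4]
  exact Finset.smul_mem_smul_finset hx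

/-- the setwise stabiliser of a finset in a permutation group -/
def stab (Γ : Finset Ω) : Subgroup (Perm Ω) where
  carrier := {g | ∀ x, g x ∈ Γ ↔ x ∈ Γ}
  one_mem' := fun x => Iff.rfl
  mul_mem' := fun {a b} ha hb x => (ha (b x)).trans (hb x)
  inv_mem' := fun {a} ha x => by
    have h1 := ha (a⁻¹ x)
    have h2 : a (a⁻¹ x) = x := a.apply_symm_apply x
    rw [h2] at h1
    exact h1.symm

omit [Fintype Ω] [DecidableEq Ω] in
theorem mem_stab {Γ : Finset Ω} {g : Perm Ω} : g ∈ stab Γ ↔ ∀ x, g x ∈ Γ ↔ x ∈ Γ := Iff.rfl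

omit [Fintype Ω] [DecidableEq Ω] in
theorem mem_stab_of {Γ : Finset Ω} {g : Perm Ω} (h : ∀ x ∈ Γ, g x ∈ Γ) : g ∈ stab Γ := by
  have h1 : Γ.map g.toEmbedding = Γ := by
    apply Finset.eq_of_subset_of_card_le
    · intro y hy
      obtain ⟨x, hx, rfl⟩ := Finset.mem_map.1 hy
      exact h x hx
    · rw [Finset.card_map]
  intro x
  refine ⟨fun hx => ?_, h x⟩
  rw [← h1, Finset.mem_map] at hx
  obtain ⟨y, hy, hyx⟩ := hx
  rw [← g.injective hyx]
  exact hy

/-- a proper nonempty subset is not invariant under the alternating group -/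
theorem not_alt_le_stab {Γ : Finset Ω} (h0 : Γ.Nonempty) (h1 : 2 * Γ.card < Fintype.card Ω) (hm : 5 ≤ Fintype.card Ω) :
    ¬ alternatingGroup Ω ≤ stab Γ := by
  intro hle
  obtain ⟨a, ha⟩ := h0
  have h2 : Γ ≠ Finset.univ := by
    intro h
    rw [h, Finset.card_univ] at h1
    omega
  obtain ⟨b, hb⟩ : ∃ b, b ∉ Γ := by
    by_contra hcon
    push Not at hcon
    exact h2 (Finset.eq_univ_iff_forall.2 hcon)
  obtain ⟨g, hg, hgs⟩ := trans_alt (s := {a}) (t := {b}) (by simp) (by simp; omega)
  have h3 : g a = b := by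
    have := hgs a (Finset.mem_singleton_self a)
    exact Finset.mem_singleton.1 this
  have h4 := (hle hg a).2 ha
  rw [h3] at h4
  exact hb h4

end gen

section PEx

variable {Ω : Type u} [Fintype Ω] [DecidableEq Ω] {G H B : Subgroup (Perm Ω)}

theorem PEx.exists_mul (h : PEx G H B) {g : Perm Ω} (hg : g ∈ G) : ∃ x ∈ H, ∃ y ∈ B, x * y = g := by
  let f : H × B → G := fun z => ⟨(z.1 : Perm Ω) * (z.2 : Perm Ω), G.mul_mem (h.hG z.1.2) (h.bG z.2.2)⟩
  have hinj : Function.Injective f := by
    rintro ⟨a, b⟩ ⟨c, d⟩ hab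
    have hab' : (a : Perm Ω) * b = c * d := congrArg Subtype.val hab
    have h1 : (c : Perm Ω)⁻¹ * a = d * (b : Perm Ω)⁻¹ := by
      rw [inv_mul_eq_iff_eq_mul, ← mul_assoc, ← hab', mul_inv_cancel_right]
    have h2 : (c : Perm Ω)⁻¹ * a ∈ H ⊓ B :=
      ⟨H.mul_mem (H.inv_mem c.2) a.2, by rw [h1]; exact B.mul_mem d.2 (B.inv_mem b.2)⟩
    rw [h.inf, Subgroup.mem_bot] at h2
    have h3 : (a : Perm Ω) = c := (inv_mul_eq_one.1 h2).symm
    have h4 : (b : Perm Ω) = d := by
      rw [h1] at h2
      exact (mul_inv_eq_one.1 h2).symm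
    exact Prod.ext (Subtype.ext h3) (Subtype.ext h4)
  have hbij : Function.Bijective f := by
    rw [Nat.bijective_iff_injective_and_card]
    exact ⟨hinj, by rw [Nat.card_prod]; exact h.card⟩
  obtain ⟨⟨x, y⟩, hxy⟩ := hbij.2 ⟨g, hg⟩
  exact ⟨x, x.2, y, y.2, congrArg Subtype.val hxy⟩

/-- no nontrivial element of `H` is conjugate in `G` to an element of `B` -/
theorem PEx.not_conj (h : PEx G H B) {x g : Perm Ω} (hx : x ∈ H) (hg : g ∈ G) (hy : g * x * g⁻¹ ∈ B) : x = 1 := by
  obtain ⟨a, ha, b, hb, hab⟩ := h.exists_mul (G.inv_mem hg)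
  have hg : g = b⁻¹ * a⁻¹ := by rw [← mul_inv_rev, hab, inv_inv]
  have h1 : a⁻¹ * x * a ∈ H ⊓ B := by
    refine ⟨H.mul_mem (H.mul_mem (H.inv_mem ha) hx) ha, ?_⟩
    have : a⁻¹ * x * a = b * (g * x * g⁻¹) * b⁻¹ := by
      rw [hg]; group
    rw [this]
    exact B.mul_mem (B.mul_mem hb hy) (B.inv_mem hb)
  rw [h.inf, Subgroup.mem_bot] at h1
  have h2 : x = a * (a⁻¹ * x * a) * a⁻¹ := by group
  rw [h2, h1]; group

theorem PEx.exists_mul' (h : PEx G H B) {g : Perm Ω} (hg : g ∈ G) : ∃ y ∈ B, ∃ x ∈ H, y * x = g := by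
  obtain ⟨x, hx, y, hy, hxy⟩ := h.exists_mul (G.inv_mem hg)
  exact ⟨y⁻¹, B.inv_mem hy, x⁻¹, H.inv_mem hx, by rw [← mul_inv_rev, hxy, inv_inv]⟩

end PEx

section factor

variable {Ω : Type u} [Fintype Ω] [DecidableEq Ω]

/-- a subgroup of order divisible by `p`, `m/2 < p ≤ m - 6`, which does not contain the alternating group is intransitive -/
theorem exists_orbit (X : Subgroup (Perm Ω)) (hX : ¬ alternatingGroup Ω ≤ X) {p : ℕ} (hp : p.Prime) (hpX : p ∣ Nat.card X)
    (hlt : Fintype.card Ω < 2 * p) (hle : p + 6 ≤ Fintype.card Ω) :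
    ∃ c ∈ X, c.IsCycle ∧ c.support.card = p ∧ ∃ Γ : Finset Ω, Γ.Nonempty ∧ Γ.card + p ≤ Fintype.card Ω ∧
      X ≤ stab Γ ∧ (∀ a b, a ∉ Γ → b ∉ Γ → ∃ x ∈ X, x a = b) ∧ ∀ x ∈ Γ, c x = x := by
  classical
  have := Fact.mk hp
  obtain ⟨⟨c, hcX⟩, hc⟩ := exists_prime_orderOf_dvd_card' p hpX
  have hc' : orderOf c = p := by rw [← hc, Subgroup.orderOf_mk]
  have hcyc : c.IsCycle := Perm.isCycle_of_prime_order' (by rw [hc']; exact hp) (by rw [hc']; exact hlt)
  have hsup : c.support.card = p := by rw [← hcyc.orderOf, hc']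
  obtain ⟨a, ha, hall⟩ := id hcyc
  let Γ : Finset Ω := Finset.univ.filter fun x => x ∉ orbit X a
  have hΓ : ∀ x, x ∈ Γ ↔ x ∉ orbit X a := fun x => by simp [Γ]
  have hfix : ∀ x ∈ Γ, c x = x := by
    intro x hx
    by_contra hcx
    rw [hΓ] at hx
    obtain ⟨k, hk⟩ := hall hcx
    exact hx ⟨⟨c ^ k, X.zpow_mem hcX k⟩, hk⟩
  refine ⟨c, hcX, hcyc, hsup, Γ, ?_, ?_, ?_, ?_, hfix⟩
  · by_contra hne
    rw [Finset.not_nonempty_iff_eq_empty] at hne
    apply hX
    have htr : IsPretransitive X Ω := by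
      rw [isPretransitive_iff_base a]
      intro x
      have : x ∈ orbit X a := by
        by_contra h1
        have := (hΓ x).2 h1
        rw [hne] at this
        exact absurd this (Finset.notMem_empty x)
      exact this
    have hprim := prim_of_cycle X htr hcX hcyc (by rw [hsup]; exact hp) (by rw [hsup]; exact hlt)
    exact Cfsg.Agent.S0713.result X hprim hp (by omega) (by omega) hcyc hsup hcX
  · have h1 : Disjoint Γ c.support := by
      rw [Finset.disjoint_left]
      intro x hx hx'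
      exact (Perm.mem_support.1 hx') (hfix x hx)
    rw [← hsup, ← Finset.card_union_of_disjoint h1]
    exact Finset.card_le_univ _
  · intro g hg x
    rw [hΓ, hΓ]
    refine not_congr ⟨?_, ?_⟩
    · rintro ⟨y, hy⟩
      refine ⟨⟨g⁻¹, X.inv_mem hg⟩ * y, ?_⟩
      change g⁻¹ ((y : Perm Ω) a) = x
      have h2 : (y : Perm Ω) a = g x := hy
      rw [h2]
      exact g.symm_apply_apply x
    · rintro ⟨y, hy⟩
      refine ⟨⟨g, hg⟩ * y, ?_⟩
      change g ((y : Perm Ω) a) = g x
      have h2 : (y : Perm Ω) a = x := hy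
      rw [h2]
  · intro x y hx hy
    rw [hΓ, not_not] at hx hy
    obtain ⟨u, hu⟩ := hx
    obtain ⟨v, hv⟩ := hy
    refine ⟨v * (u : Perm Ω)⁻¹, X.mul_mem v.2 (X.inv_mem u.2), ?_⟩
    have h1 : (u : Perm Ω) a = x := hu
    have h2 : (v : Perm Ω) a = y := hv
    change (v : Perm Ω) ((u : Perm Ω)⁻¹ x) = y
    rw [← h1, ← h2]
    congr 1
    exact (u : Perm Ω).symm_apply_apply a

/-- restriction to the complement of an invariant finset -/
def res (Γ : Finset Ω) : stab Γ →* Perm {x // x ∉ Γ} where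
  toFun g := (g : Perm Ω).subtypePerm fun x => not_congr (g.2 x)
  map_one' := by ext x; rfl
  map_mul' g h := by ext x; rfl

/-- restriction to an invariant finset -/
def resIn (Γ : Finset Ω) : stab Γ →* Perm {x // x ∈ Γ} where
  toFun g := (g : Perm Ω).subtypePerm fun x => g.2 x
  map_one' := by ext x; rfl
  map_mul' g h := by ext x; rfl

omit [Fintype Ω] [DecidableEq Ω] in
theorem res_apply {Γ : Finset Ω} (g : stab Γ) (x : {x // x ∉ Γ}) : ((res Γ g x : {x // x ∉ Γ}) : Ω) = (g : Perm Ω) x := rfl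

omit [Fintype Ω] [DecidableEq Ω] in
theorem resIn_apply {Γ : Finset Ω} (g : stab Γ) (x : {x // x ∈ Γ}) : ((resIn Γ g x : {x // x ∈ Γ}) : Ω) = (g : Perm Ω) x := rfl

omit [Fintype Ω] in
theorem eq_one_of_res {Γ : Finset Ω} {g : stab Γ} (h1 : res Γ g = 1) (h2 : resIn Γ g = 1) : g = 1 := by
  apply Subtype.ext
  ext x
  by_cases hx : x ∈ Γ
  · have := congrArg (fun f => ((f ⟨x, hx⟩ : {x // x ∈ Γ}) : Ω)) h2
    exact this
  · have := congrArg (fun f => ((f ⟨x, hx⟩ : {x // x ∉ Γ}) : Ω)) h1
    exact this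

/-- `B ≤ stab Γ` transitive on the complement and containing a `p`-cycle contains the alternating group of the complement -/
theorem alt_le_of_cycle (X : Subgroup (Perm Ω)) {Γ : Finset Ω} (hX : X ≤ stab Γ) (hΓ3 : Γ.card ≤ 3) {p : ℕ} (hp : p.Prime)
    (hlt : Fintype.card Ω < 2 * p) (hle : p + 6 ≤ Fintype.card Ω) (htr : ∀ a b, a ∉ Γ → b ∉ Γ → ∃ x ∈ X, x a = b)
    {c : Perm Ω} (hc : c ∈ X) (hcyc : c.IsCycle) (hsup : c.support.card = p) (hfix : ∀ x ∈ Γ, c x = x)
    {g : Perm Ω} (hg : g ∈ alternatingGroup Ω) (hgΓ : ∀ x ∈ Γ, g x = x) : g ∈ X := by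
  classical
  set X' : Subgroup (stab Γ) := X.subgroupOf (stab Γ) with hX'
  set R : Subgroup (Perm {x // x ∉ Γ}) := X'.map (res Γ) with hR
  have hcardΔ : Fintype.card {x // x ∉ Γ} = Fintype.card Ω - Γ.card := by
    rw [Fintype.card_subtype_compl, Fintype.card_coe]
  -- transitivity
  have hRtr : IsPretransitive R {x // x ∉ Γ} := by
    constructor
    intro a b
    obtain ⟨x, hx, hxa⟩ := htr a b a.2 b.2
    exact ⟨⟨res Γ ⟨x, hX hx⟩, ⟨⟨x, hX hx⟩, hx, rfl⟩⟩, Subtype.ext hxa⟩
  -- the cycle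
  have hcs : c ∈ stab Γ := hX hc
  have hmv : ∀ x, c x ≠ x → x ∉ Γ := fun x h1 h2 => h1 (hfix x h2)
  set c' : Perm {x // x ∉ Γ} := res Γ ⟨c, hcs⟩ with hc'
  have hc'cyc : c'.IsCycle := by
    obtain ⟨a, ha, hall⟩ := id hcyc
    refine ⟨⟨a, hmv a ha⟩, fun h => ha (congrArg Subtype.val h), fun y hy => ?_⟩
    have h1 : c y ≠ y := fun h => hy (Subtype.ext h)
    obtain ⟨k, hk⟩ := hall h1
    refine ⟨k, ?_⟩
    rw [hc', ← map_zpow]
    exact Subtype.ext hk
  have hc'sup : c'.support.card = p := by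
    have h1 : c'.support.map (Function.Embedding.subtype _) = c.support := by
      ext x
      rw [Finset.mem_map]
      constructor
      · rintro ⟨y, hy, rfl⟩
        rw [Perm.mem_support] at hy ⊢
        exact fun h => hy (Subtype.ext h)
      · intro hx
        rw [Perm.mem_support] at hx
        refine ⟨⟨x, hmv x hx⟩, ?_, rfl⟩
        rw [Perm.mem_support]
        exact fun h => hx (congrArg Subtype.val h)
    rw [← hsup, ← h1, Finset.card_map]
  have hc'R : c' ∈ R := ⟨⟨c, hcs⟩, hc, rfl⟩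
  have hprim := prim_of_cycle R hRtr hc'R hc'cyc (by rw [hc'sup]; exact hp) (by rw [hc'sup, hcardΔ]; omega)
  have hAR : alternatingGroup {x // x ∉ Γ} ≤ R :=
    Cfsg.Agent.S0713.result R hprim hp (by rw [hcardΔ]; omega) (by rw [hcardΔ]; omega) hc'cyc hc'sup hc'R
  -- the kernel on `Γ`
  set K : Subgroup (Perm {x // x ∉ Γ}) := (X' ⊓ (resIn Γ).ker).map (res Γ) with hK
  have hKn : (K.subgroupOf (alternatingGroup {x // x ∉ Γ})).Normal := by
    constructor
    rintro n hn a
    obtain ⟨y, ⟨hy1, hy2⟩, hyn⟩ := hn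
    obtain ⟨z, hz, hza⟩ := hAR a.2
    refine ⟨z * y * z⁻¹, ⟨X'.mul_mem (X'.mul_mem hz hy1) (X'.inv_mem hz), ?_⟩, ?_⟩
    · exact (MonoidHom.normal_ker (resIn Γ)).conj_mem y hy2 z
    · rw [map_mul, map_mul, map_inv, hza, hyn]; rfl
  have hsimple : IsSimpleGroup (alternatingGroup {x // x ∉ Γ}) := alternatingGroup.isSimpleGroup (by
    rw [Nat.card_eq_fintype_card, hcardΔ]; omega)
  have hK1 : K.subgroupOf (alternatingGroup {x // x ∉ Γ}) = ⊤ := by
    rcases hKn.eq_bot_or_eq_top with h1 | h1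
    · exfalso
      -- the preimage of the alternating group embeds in `Perm Γ`
      set A0 : Subgroup (stab Γ) := X' ⊓ (alternatingGroup {x // x ∉ Γ}).comap (res Γ) with hA0
      have h2 : Nat.card (alternatingGroup {x // x ∉ Γ}) ≤ Nat.card A0 := by
        have h3 : A0.map (res Γ) = alternatingGroup {x // x ∉ Γ} := by
          ext y
          constructor
          · rintro ⟨z, hz, rfl⟩
            exact hz.2
          · intro hy
            obtain ⟨z, hz, hzy⟩ := hAR hy
            refine ⟨z, ⟨hz, ?_⟩, hzy⟩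
            change res Γ z ∈ alternatingGroup {x // x ∉ Γ}
            rw [hzy]; exact hy
        rw [← h3]
        exact Nat.card_le_card_of_surjective _ ((res Γ).subgroupMap_surjective A0)
      have h4 : Nat.card A0 ≤ Nat.card (Perm {x // x ∈ Γ}) := by
        let f : A0 →* Perm {x // x ∈ Γ} := (resIn Γ).comp A0.subtype
        have hf : Function.Injective f := by
          rw [injective_iff_map_eq_one]
          intro z hz
          have h5 : (z : stab Γ) ∈ (resIn Γ).ker := hz
          have h6 : res Γ (z : stab Γ) = 1 := by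
            have h7 : (⟨res Γ (z : stab Γ), z.2.2⟩ : alternatingGroup {x // x ∉ Γ}) ∈
                K.subgroupOf (alternatingGroup {x // x ∉ Γ}) := ⟨z, ⟨z.2.1, h5⟩, rfl⟩
            rw [h1, Subgroup.mem_bot] at h7
            exact congrArg Subtype.val h7
          exact Subtype.ext (eq_one_of_res h6 h5)
        exact Nat.card_le_card_of_injective f hf
      have h8 : Nat.card (Perm {x // x ∈ Γ}) ≤ 6 := by
        rw [Nat.card_eq_fintype_card, Fintype.card_perm, Fintype.card_coe]
        calc Nat.factorial Γ.card ≤ Nat.factorial 3 := Nat.factorial_le hΓ3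
          _ = 6 := rfl
      have h9 : 13 ≤ Nat.card (alternatingGroup {x // x ∉ Γ}) := by
        have hnt : Nontrivial {x // x ∉ Γ} := by
          rw [← Fintype.one_lt_card_iff_nontrivial, hcardΔ]; omega
        have h10 := two_mul_card_alternatingGroup (α := {x // x ∉ Γ})
        rw [Fintype.card_perm, hcardΔ] at h10
        have h11 : Nat.factorial 5 ≤ Nat.factorial (Fintype.card Ω - Γ.card) := Nat.factorial_le (by omega)
        have h12 : Nat.factorial 5 = 120 := rfl
        rw [Nat.card_eq_fintype_card]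
        omega
      omega
    · exact h1
  -- the element `g`
  have hgs : g ∈ stab Γ := mem_stab_of fun x hx => by rw [hgΓ x hx]; exact hx
  have hg' : res Γ ⟨g, hgs⟩ ∈ alternatingGroup {x // x ∉ Γ} := by
    rw [Perm.mem_alternatingGroup] at hg ⊢
    rw [← hg]
    exact Perm.sign_subtypePerm g (fun x => not_congr (hgs x)) fun x h1 h2 => h1 (hgΓ x h2)
  have h1 : (⟨res Γ ⟨g, hgs⟩, hg'⟩ : alternatingGroup {x // x ∉ Γ}) ∈ K.subgroupOf (alternatingGroup {x // x ∉ Γ}) := by
    rw [hK1]; trivial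
  obtain ⟨y, ⟨hy1, hy2⟩, hyg⟩ := h1
  have h2 : y = ⟨g, hgs⟩ := by
    have h3 : resIn Γ ⟨g, hgs⟩ = 1 := by
      ext x
      exact hgΓ x x.2
    have h4 : res Γ (y * ⟨g, hgs⟩⁻¹) = 1 := by
      rw [map_mul, map_inv]
      rw [mul_inv_eq_one]
      exact hyg
    have h5 : resIn Γ (y * ⟨g, hgs⟩⁻¹) = 1 := by
      rw [map_mul, map_inv, h3, inv_one, mul_one]
      exact hy2
    exact mul_inv_eq_one.1 (eq_one_of_res h4 h5)
  rw [h2] at hy1
  exact hy1

end factor

section embed

/-- **The concrete situation.** -/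
theorem exists_pex {G : Type u} [Group G] [Finite G] {T H B : Subgroup G} (h : Ex T H B) (h0 : ¬ T ≤ B) {n : ℕ}
    (e : T ≃* alternatingGroup (Fin n)) :
    ∃ f : G →* Perm (Fin n), Function.Injective f ∧ PEx f.range (H.map f) (B.map f) := by
  have hTn := h.normal
  -- the degree
  have hcardT : Nat.card T = Nat.card (alternatingGroup (Fin n)) := Nat.card_congr e.toEquiv
  have hlarge := h.large_socle
  have hn2 : 2 ≤ n := by
    by_contra hn
    have h1 : Nat.card T ≤ Nat.factorial n := by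
      rw [hcardT, ← Fintype.card_fin n, ← Fintype.card_perm, Fintype.card_fin n, ← Nat.card_eq_fintype_card]
      exact Subgroup.card_le_card_group _
    have h2 : Nat.factorial n ≤ Nat.factorial 2 := Nat.factorial_le (by omega)
    have h3 : Nat.factorial 2 ≤ Nat.factorial 29 := Nat.factorial_le (by norm_num)
    omega
  have hnt : Nontrivial (Fin n) := Fin.nontrivial_iff_two_le.2 hn2
  have hcard2 : 2 * Nat.card T = Nat.factorial n := by
    have h1 := two_mul_card_alternatingGroup (α := Fin n)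
    rw [Fintype.card_perm, Fintype.card_fin] at h1
    rw [hcardT, Nat.card_eq_fintype_card]
    exact h1
  have hn : 30 ≤ n := by
    by_contra hn
    have h1 : Nat.factorial n ≤ Nat.factorial 29 := Nat.factorial_le (by omega)
    omega
  obtain ⟨f, hf⟩ := Cfsg.Agent.H600.KSix.exists_emb (n := n) (by omega) T e h.cent
  have hfT : ∀ K : Subgroup G, alternatingGroup (Fin n) ≤ K.map f → T ≤ K := by
    intro K hK
    -- `alternatingGroup ≤ T.map f`, so `T.map f = alternatingGroup`
    have h1 : T.map f ⊓ alternatingGroup (Fin n) = T.map f := by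
      have h2 : ((alternatingGroup (Fin n)).comap f).Normal := inferInstance
      -- `f T` is perfect, so even
      have h3 : T ≤ (alternatingGroup (Fin n)).comap f := by
        have := h.simple
        have h4 : (((alternatingGroup (Fin n)).comap f).subgroupOf T).Normal := h2.subgroupOf T
        rcases h4.eq_bot_or_eq_top with h5 | h5
        · exfalso
          apply h.nonab
          refine ⟨⟨fun a b => ?_⟩⟩
          have h6 : a * b * a⁻¹ * b⁻¹ ∈ ((alternatingGroup (Fin n)).comap f).subgroupOf T := by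
            rw [Subgroup.mem_subgroupOf, Subgroup.mem_comap, Perm.mem_alternatingGroup]
            have h7 : f ((a * b * a⁻¹ * b⁻¹ : T) : G) = f a * f b * (f a)⁻¹ * (f b)⁻¹ := by
              simp
            rw [h7, map_mul, map_mul, map_mul, map_inv, map_inv]
            have h8 := Int.units_eq_one_or (Perm.sign (f a))
            have h9 := Int.units_eq_one_or (Perm.sign (f b))
            rcases h8 with h8 | h8 <;> rcases h9 with h9 | h9 <;> rw [h8, h9] <;> simp
          rw [h5, Subgroup.mem_bot] at h6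
          have h7 : a * b * (b * a)⁻¹ = 1 := by rw [← h6]; group
          exact mul_inv_eq_one.1 h7
        · exact Subgroup.subgroupOf_eq_top.1 h5
      exact inf_eq_left.2 (Subgroup.map_le_iff_le_comap.2 h3)
    have h2 : Nat.card (T.map f) = Nat.card (alternatingGroup (Fin n)) := by
      rw [Subgroup.card_map_of_injective hf.inj, hcardT]
    have h3 : T.map f = alternatingGroup (Fin n) :=
      Subgroup.eq_of_le_of_card_ge (by rw [← h1]; exact inf_le_right) (by rw [h2])
    rw [← h3] at hK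
    exact (Subgroup.map_le_map_iff_of_injective hf.inj).1 hK
  refine ⟨f, hf.inj, ?_, Subgroup.map_le_range _ _, Subgroup.map_le_range _ _, ?_, ?_, ?_, ?_, ?_, ?_, ?_, ?_, ?_⟩
  · intro σ hσ
    obtain ⟨g, hg⟩ := hf.alt σ hσ
    exact ⟨g, hg⟩
  · intro heq
    have h1 : H = ⊤ := by
      rw [MonoidHom.range_eq_map] at heq
      exact Subgroup.map_injective hf.inj heq
    exact h.max.1 h1
  · intro M hM1 hM2
    have h1 : H ≤ M.comap f := Subgroup.map_le_iff_le_comap.1 hM1
    have h2 : (M.comap f).map f = M := Subgroup.map_comap_eq_self hM2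
    rcases h.max.le_iff.1 h1 with h3 | h3
    · right
      rw [← h2, h3, MonoidHom.range_eq_map]
    · left
      rw [← h2, h3]
  · intro hA
    exact h.not_le (hfT H hA)
  · intro hA
    exact h0 (hfT B hA)
  · rw [← Subgroup.map_inf _ _ _ hf.inj, h.inf, Subgroup.map_bot]
  · rw [Subgroup.card_map_of_injective hf.inj, Subgroup.card_map_of_injective hf.inj, h.card]
    exact Nat.card_congr (MonoidHom.ofInjective hf.inj).toEquiv
  · rw [Subgroup.card_map_of_injective hf.inj]
    exact h.large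
  · rw [Subgroup.card_map_of_injective hf.inj, Fintype.card_fin]
    intro h1
    apply h.nat
    rw [h1, hcard2]
  · rw [Fintype.card_fin]
    exact hn

end embed

section dich

variable {Ω : Type u} [Fintype Ω] [DecidableEq Ω] {G H B : Subgroup (Perm Ω)}

/-- **The dichotomy.** -/
theorem PEx.dich (h : PEx G H B) :
    (∃ k : ℕ, 2 ≤ k ∧ 2 * k < Fintype.card Ω ∧ Nat.card B = (Fintype.card Ω).choose k ∧
      ∀ b ∈ B, ∀ s : Finset Ω, s.card = k → s.map b.toEmbedding = s → b = 1) ∨
    ∃ (Γ : Finset Ω) (k : ℕ), Pre G H B Γ k ∧ (k ≤ 3 → Two G H B Γ k) := by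
  classical
  have hm := h.deg
  have hnt : Nontrivial Ω := Fintype.one_lt_card_iff_nontrivial.1 (by omega)
  obtain ⟨p, hp, hlt, hle⟩ := exists_prime hm
  have hpG : p ∣ Nat.card G := by
    have h1 : p ∣ Nat.card (alternatingGroup Ω) := by
      have h2 := two_mul_card_alternatingGroup (α := Ω)
      rw [Fintype.card_perm] at h2
      have h3 : p ∣ Nat.factorial (Fintype.card Ω) := hp.dvd_factorial.2 (by omega)
      rw [← h2, hp.dvd_mul] at h3
      rw [Nat.card_eq_fintype_card]
      rcases h3 with h3 | h3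
      · have := (Nat.prime_dvd_prime_iff_eq hp Nat.prime_two).1 h3
        omega
      · exact h3
    exact h1.trans (Subgroup.card_dvd_of_le h.alt)
  -- moving finsets by elements of `G`
  have hmove : ∀ s t : Finset Ω, s.card = t.card → s.card + 2 ≤ Fintype.card Ω → ∃ g ∈ G, g ∈ alternatingGroup Ω ∧ ∀ x ∈ s, g x ∈ t :=
    fun s t hst hs => by
      obtain ⟨g, hg, hgs⟩ := trans_alt hst hs
      exact ⟨g, h.alt hg, hg, hgs⟩
  have hmap : ∀ (g : Perm Ω) (s t : Finset Ω), s.card = t.card → (∀ x ∈ s, g x ∈ t) → s.map g.toEmbedding = t := by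
    intro g s t hst hgs
    apply Finset.eq_of_subset_of_card_le
    · intro y hy
      obtain ⟨x, hx, rfl⟩ := Finset.mem_map.1 hy
      exact hgs x hx
    · rw [Finset.card_map, hst]
  rw [← h.card, hp.dvd_mul] at hpG
  rcases hpG with hpH | hpB
  · -- Case I
    left
    obtain ⟨c, hcH, hcyc, hsup, Γ, hΓ0, hΓp, hHΓ, htr, hfix⟩ := exists_orbit H h.not_alt hp hpH hlt hle
    have hHeq : H = stab Γ ⊓ G := by
      rcases h.max (stab Γ ⊓ G) (le_inf hHΓ h.hG) inf_le_right with h1 | h1
      · exact h1.symm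
      · exfalso
        have h2 : alternatingGroup Ω ≤ stab Γ := h.alt.trans (by rw [← h1]; exact inf_le_left)
        exact not_alt_le_stab hΓ0 (by omega) (by omega) h2
    have hfree : ∀ b ∈ B, ∀ s : Finset Ω, s.card = Γ.card → s.map b.toEmbedding = s → b = 1 := by
      intro b hb s hs hbs
      obtain ⟨g, hg, -, hgs⟩ := hmove Γ s hs.symm (by omega)
      -- `g⁻¹ b g ∈ H`
      have hgm := hmap g Γ s hs.symm hgs
      have h1 : g⁻¹ * b * g ∈ H := by
        rw [hHeq]
        refine ⟨mem_stab_of fun x hx => ?_, G.mul_mem (G.mul_mem (G.inv_mem hg) (h.bG hb)) hg⟩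
        have h2 : b (g x) ∈ s := by
          rw [← hbs]
          exact Finset.mem_map_of_mem b.toEmbedding (hgs x hx)
        rw [← hgm, Finset.mem_map] at h2
        obtain ⟨y, hy, hyb⟩ := h2
        change g⁻¹ (b (g x)) ∈ Γ
        have h3 : g y = b (g x) := hyb
        rw [← h3]
        have h4 : g⁻¹ (g y) = y := g.symm_apply_apply y
        rw [h4]; exact hy
      have h5 := h.not_conj h1 hg (by
        have : g * (g⁻¹ * b * g) * g⁻¹ = b := by group
        rw [this]; exact hb)
      have h6 : b = g * (g⁻¹ * b * g) * g⁻¹ := by group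
      rw [h6, h5]; group
    have hcardB : Nat.card B = (Fintype.card Ω).choose Γ.card := by
      have h1 : Nat.card (Set.powersetCard Ω Γ.card) = (Fintype.card Ω).choose Γ.card := by
        rw [Set.powersetCard.card, Nat.card_eq_fintype_card]
      rw [← h1]
      apply Nat.card_congr
      refine Equiv.ofBijective (fun b : B => (⟨Γ.map (b : Perm Ω).toEmbedding, by
        change (Γ.map _).card = Γ.card
        rw [Finset.card_map]⟩ : Set.powersetCard Ω Γ.card)) ⟨?_, ?_⟩
      · intro a b hab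
        have h2 : Γ.map (a : Perm Ω).toEmbedding = Γ.map (b : Perm Ω).toEmbedding := congrArg Subtype.val hab
        have h3 : ((a : Perm Ω)⁻¹ * b) = 1 := by
          apply hfree _ (B.mul_mem (B.inv_mem a.2) b.2) Γ rfl
          apply hmap _ _ _ rfl
          intro x hx
          have h4 : (b : Perm Ω) x ∈ Γ.map (a : Perm Ω).toEmbedding := by
            rw [h2]; exact Finset.mem_map_of_mem _ hx
          obtain ⟨y, hy, hyx⟩ := Finset.mem_map.1 h4
          change (a : Perm Ω)⁻¹ ((b : Perm Ω) x) ∈ Γ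
          have h5 : (a : Perm Ω) y = (b : Perm Ω) x := hyx
          rw [← h5]
          have h6 : (a : Perm Ω)⁻¹ ((a : Perm Ω) y) = y := (a : Perm Ω).symm_apply_apply y
          rw [h6]; exact hy
        exact Subtype.ext (inv_mul_eq_one.1 h3)
      · rintro ⟨s, hs⟩
        have hs' : s.card = Γ.card := hs
        obtain ⟨g, hg, -, hgs⟩ := hmove Γ s hs'.symm (by omega)
        obtain ⟨y, hy, x, hx, hyx⟩ := h.exists_mul' hg
        refine ⟨⟨y, hy⟩, Subtype.ext ?_⟩
        change Γ.map y.toEmbedding = s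
        apply hmap _ _ _ hs'.symm
        intro z hz
        have h2 : x⁻¹ z ∈ Γ := by
          have := (hHΓ (H.inv_mem hx)) z
          exact this.2 hz
        have h3 := hgs _ h2
        rw [← hyx] at h3
        change y (x (x⁻¹ z)) ∈ s at h3
        have h4 : x (x⁻¹ z) = z := x.apply_symm_apply z
        rwa [h4] at h3
    refine ⟨Γ.card, ?_, by omega, hcardB, hfree⟩
    by_contra hk
    have h1 : Γ.card = 1 := by
      have := hΓ0.card_pos
      omega
    rw [h1, Nat.choose_one_right] at hcardB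
    exact h.nat hcardB
  · -- Case II
    right
    obtain ⟨c, hcB, hcyc, hsup, Γ, hΓ0, hΓp, hBΓ, htr, hfix⟩ := exists_orbit B h.not_altB hp hpB hlt hle
    have hpre : Pre G H B Γ Γ.card := by
      refine { h with cardΓ := rfl, pos := hΓ0.card_pos, lt := by omega, stab := fun b hb x hx => ((hBΓ hb) x).2 hx, hom := ?_ }
      rw [isPretransitive_iff_base (⟨Γ, rfl⟩ : Set.powersetCard Ω Γ.card)]
      rintro ⟨s, hs⟩
      have hs' : s.card = Γ.card := hs
      obtain ⟨g, hg, -, hgs⟩ := hmove Γ s hs'.symm (by omega)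
      obtain ⟨x, hx, y, hy, hxy⟩ := h.exists_mul hg
      refine ⟨⟨x, hx⟩, Subtype.ext ?_⟩
      change x • Γ = s
      have h1 : x • Γ = Γ.map x.toEmbedding := by
        ext z
        simp only [Finset.mem_map, Finset.mem_smul_finset]
        rfl
      rw [h1]
      apply hmap _ _ _ hs'.symm
      intro z hz
      have h2 : y⁻¹ z ∈ Γ := ((hBΓ (B.inv_mem hy)) z).2 hz
      have h3 := hgs _ h2
      rw [← hxy] at h3
      change x (y (y⁻¹ z)) ∈ s at h3
      have h4 : y (y⁻¹ z) = z := y.apply_symm_apply z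
      rwa [h4] at h3
    refine ⟨Γ, Γ.card, hpre, fun hk => ?_⟩
    have halt : ∀ g ∈ alternatingGroup Ω, (∀ x ∈ Γ, g x = x) → g ∈ B := fun g hg hgΓ =>
      alt_le_of_cycle B hBΓ hk hp hlt hle htr hcB hcyc hsup hfix hg hgΓ
    refine { hpre with alt_le := halt, triv := ?_ }
    intro x hx hxA s hs hxs
    obtain ⟨g, hg, hgA, hgs⟩ := hmove s Γ hs (by omega)
    have hgm := hmap g s Γ hs hgs
    refine h.not_conj hx hg (halt _ ?_ ?_)
    · exact (inferInstance : (alternatingGroup Ω).Normal).conj_mem x hxA g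
    · intro z hz
      rw [← hgm, Finset.mem_map] at hz
      obtain ⟨y, hy, rfl⟩ := hz
      change g (x (g⁻¹ (g y))) = g y
      have h1 : g⁻¹ (g y) = y := g.symm_apply_apply y
      rw [h1, hxs y hy]

end dich

end Cfsg.Agent.H454.Reg.Alt
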