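import Cfsg.Agent.H454.Reg.Alt.Small
import Cfsg.Agent.H454.Reg.Alt.Concl
import Cfsg.Agent.S0243

/-!
# S3691, alternating socle: Case II, `k = 3`, and the assembly
-/

set_option autoImplicit false

namespace Cfsg.Agent.H454.Reg.Alt

open Equiv MulAction Subgroup
open Cfsg.Agent.H384.TwoTrans (AS Known2)
open scoped Pointwise

universe u

section line

variable {Ω : Type u} [Fintype Ω] [DecidableEq Ω] {F : Type} [Fintype F] [DecidableEq F]

/-- a permutation of the affine line as a permutation of the points -/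
def lift (e : Ω ≃ Option F) : Perm F →* Perm Ω where
  toFun τ := (e.trans (optionCongr τ)).trans e.symm
  map_one' := by
    ext x
    change e.symm (Option.map id (e x)) = x
    rw [Option.map_id, id, symm_apply_apply]
  map_mul' σ τ := by
    ext x
    change e.symm (Option.map (σ * τ) (e x)) = e.symm (Option.map σ (e (e.symm (Option.map τ (e x)))))
    rw [apply_symm_apply, Option.map_map]
    rfl

omit [Fintype Ω] [DecidableEq Ω] [Fintype F] [DecidableEq F] in
theorem lift_apply (e : Ω ≃ Option F) (τ : Perm F) (x : Ω) : e (lift e τ x) = (e x).map τ := by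
  change e (e.symm _) = _
  rw [apply_symm_apply]; rfl

omit [Fintype Ω] [DecidableEq Ω] [Fintype F] [DecidableEq F] in
theorem lift_some (e : Ω ≃ Option F) (τ : Perm F) (x : F) : lift e τ (e.symm (some x)) = e.symm (some (τ x)) := by
  apply e.injective
  rw [lift_apply, apply_symm_apply, apply_symm_apply]; rfl

omit [Fintype Ω] [DecidableEq Ω] [Fintype F] [DecidableEq F] in
theorem lift_none (e : Ω ≃ Option F) (τ : Perm F) : lift e τ (e.symm none) = e.symm none := by
  apply e.injective
  rw [lift_apply, apply_symm_apply]; rfl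

omit [Fintype Ω] [DecidableEq Ω] [Fintype F] [DecidableEq F] in
theorem lift_injective (e : Ω ≃ Option F) : Function.Injective (lift e) := by
  intro σ τ h
  ext x
  have h1 := congrArg (fun f : Perm Ω => e (f (e.symm (some x)))) h
  simp only [lift_some, apply_symm_apply] at h1
  exact Option.some_injective _ h1

theorem card_support_lift (e : Ω ≃ Option F) (τ : Perm F) : (lift e τ).support.card = τ.support.card := by
  have h1 : (lift e τ).support = τ.support.map ⟨fun x => e.symm (some x), fun x y h => Option.some_injective _ (e.symm.injective h)⟩ := by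
    ext x
    rw [Finset.mem_map, Perm.mem_support]
    constructor
    · intro hx
      obtain ⟨y, hy⟩ : ∃ y, e x = some y := by
        cases hex : e x with
        | none =>
          exfalso
          apply hx
          have : x = e.symm none := by rw [← hex, symm_apply_apply]
          rw [this, lift_none]
        | some y => exact ⟨y, rfl⟩
      have hxy : x = e.symm (some y) := by rw [← hy, symm_apply_apply]
      refine ⟨y, ?_, hxy.symm⟩
      rw [Perm.mem_support]
      intro h2
      apply hx
      rw [hxy, lift_some, h2]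
    · rintro ⟨y, hy, rfl⟩
      rw [Perm.mem_support] at hy
      change lift e τ (e.symm (some y)) ≠ e.symm (some y)
      rw [lift_some]
      exact fun h2 => hy (Option.some_injective _ (e.symm.injective h2))
  rw [h1, Finset.card_map]

end line

section field

variable {F : Type} [Field F] [Fintype F]

/-- `3` divides the order of `PSL₂(q)` -/
theorem three_dvd_psl : 3 ∣ Nat.card (Matrix.ProjectiveSpecialLinearGroup (Fin 2) F) := by
  set q := Fintype.card F with hq
  have h1 := Cfsg.Agent.S0243.result (F := F) (q := q) rfl 2 le_rfl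
  rw [Fin.prod_univ_two] at h1
  have hq1 : 1 < q := Fintype.one_lt_card
  obtain ⟨j, hj⟩ : ∃ j, q = j + 2 := ⟨q - 2, by omega⟩
  have e0 : ((0 : Fin 2) : ℕ) = 0 := rfl
  have e1 : ((1 : Fin 2) : ℕ) = 1 := rfl
  rw [e0, e1, pow_zero, pow_one] at h1
  have h2 : q ^ 2 - 1 = (q - 1) * (q + 1) := by
    rw [hj]
    have : (j + 2) ^ 2 = (j + 2 - 1) * (j + 2 + 1) + 1 := by
      have : j + 2 - 1 = j + 1 := by omega
      rw [this]; ring
    omega
  have h3 : q ^ 2 - q = q * (q - 1) := by
    rw [Nat.mul_sub, mul_one, pow_two]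
  rw [h2, h3] at h1
  have hpos : 0 < q - 1 := by omega
  have h4 : Nat.gcd 2 (q - 1) * Nat.card (Matrix.ProjectiveSpecialLinearGroup (Fin 2) F) = (q - 1) * q * (q + 1) := by
    apply Nat.eq_of_mul_eq_mul_left hpos
    calc (q - 1) * (Nat.gcd 2 (q - 1) * Nat.card (Matrix.ProjectiveSpecialLinearGroup (Fin 2) F))
        = Nat.gcd 2 (q - 1) * ((q - 1) * Nat.card (Matrix.ProjectiveSpecialLinearGroup (Fin 2) F)) := by ring
      _ = (q - 1) * (q + 1) * (q * (q - 1)) := h1
      _ = (q - 1) * ((q - 1) * q * (q + 1)) := by ring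
  have h5 : 3 ∣ (q - 1) * q * (q + 1) := by
    have h6 : q % 3 = 0 ∨ q % 3 = 1 ∨ q % 3 = 2 := by omega
    rcases h6 with h6 | h6 | h6
    · exact Dvd.dvd.mul_right (Dvd.dvd.mul_left (Nat.dvd_of_mod_eq_zero h6) _) _
    · exact Dvd.dvd.mul_right (Dvd.dvd.mul_right (Nat.dvd_of_mod_eq_zero (by omega)) _) _
    · exact Dvd.dvd.mul_left (Nat.dvd_of_mod_eq_zero (by omega)) _
  rw [← h4, Nat.prime_three.dvd_mul] at h5
  rcases h5 with h5 | h5
  · exfalso
    have h6 := h5.trans (Nat.gcd_dvd_left 2 (q - 1))
    exact absurd (Nat.le_of_dvd (by norm_num) h6) (by norm_num)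
  · exact h5

end field

section three

variable {Ω : Type u} [Fintype Ω] [DecidableEq Ω] {G H B : Subgroup (Perm Ω)} {Γ : Finset Ω}

/-- a large normal subgroup of `H` is not normalised by the alternating group -/
theorem PEx.not_alt_le (h : PEx G H B) {N : Subgroup (Perm Ω)} (hNH : N ≤ H) (hN : 2 < Nat.card N) :
    ¬ alternatingGroup Ω ≤ normalizer (N : Set (Perm Ω)) := by
  intro hle
  have hm := h.deg
  have hs : IsSimpleGroup (alternatingGroup Ω) := alternatingGroup.isSimpleGroup (by
    rw [Nat.card_eq_fintype_card]; omega)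
  have hn : (N.subgroupOf (alternatingGroup Ω)).Normal := by
    constructor
    intro n hn g
    exact (Subgroup.mem_normalizer_iff.1 (hle g.2) (n : Perm Ω)).1 hn
  rcases hn.eq_bot_or_eq_top with h1 | h1
  · have h2 : Nat.card N ≤ Nat.card ℤˣ := by
      let f : N →* ℤˣ := Perm.sign.comp N.subtype
      have hf : Function.Injective f := by
        rw [injective_iff_map_eq_one]
        intro v hv
        have h3 : (⟨(v : Perm Ω), Perm.mem_alternatingGroup.2 hv⟩ : alternatingGroup Ω) ∈
            N.subgroupOf (alternatingGroup Ω) := v.2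
        rw [h1, Subgroup.mem_bot] at h3
        have h4 : (v : Perm Ω) = 1 := congrArg Subtype.val h3
        exact Subtype.ext h4
      exact Nat.card_le_card_of_injective f hf
    have h3 : Nat.card ℤˣ = 2 := by rw [Nat.card_eq_fintype_card]; rfl
    omega
  · exact h.not_alt ((Subgroup.subgroupOf_eq_top.1 h1).trans hNH)

/-- **`k = 3`.** -/
theorem Two.three (h : Two G H B Γ 3) (hK : ∀ T : Subgroup H, AS H Ω T → Known2 T (Nat.card Ω)) (hT : StThree.{u})
    (hL : StLine.{u}) : Concl B := by
  classical
  have hm := h.deg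
  have hnt : Nontrivial Ω := Fintype.one_lt_card_iff_nontrivial.1 (by omega)
  have h2t : IsMultiplyPretransitive H Ω 2 := Cfsg.Agent.S0746.result H (k := 3) (by norm_num) (by omega) h.hom
  have hprim : IsPreprimitive H Ω := isPreprimitive_of_is_two_pretransitive h2t
  rcases Cfsg.Agent.H384.TwoTrans.reduction h2t (by rw [Nat.card_eq_fintype_card]; omega) with
    ⟨A, hAn, hAne, hAc, -, -, -⟩ | ⟨T, hAS⟩
  · exfalso
    have h1 := (h.of_abelian le_rfl hprim (A := A.map H.subtype) (Subgroup.map_subtype_le _) (by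
      rintro x hx _ ⟨n, hn, rfl⟩
      exact ⟨⟨x, hx⟩ * n * ⟨x, hx⟩⁻¹, hAn.conj_mem n hn ⟨x, hx⟩, rfl⟩)
      (fun h1 => hAne ((Subgroup.map_eq_bot_iff_of_injective _ H.subtype_injective).1 h1)) (by
      rintro _ ⟨u, hu, rfl⟩ _ ⟨v, hv, rfl⟩
      have := congrArg (fun z : A => ((z : H) : Perm Ω)) (hAc.is_comm.comm ⟨u, hu⟩ ⟨v, hv⟩)
      exact this)).1
    omega
  · obtain ⟨F, _, _, hcardF, ⟨e0⟩⟩ := hT H T hm hAS (hK T hAS) h.not_alt h.hom h.triv
    set N : Subgroup (Perm Ω) := T.map H.subtype with hN
    have hNH : N ≤ H := Subgroup.map_subtype_le _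
    have e : N ≃* Matrix.ProjectiveSpecialLinearGroup (Fin 2) F :=
      (T.equivMapOfInjective H.subtype H.subtype_injective).symm.trans e0
    have hTn := hAS.normal
    have hNn : ∀ x ∈ H, ∀ n ∈ N, x * n * x⁻¹ ∈ N := by
      rintro x hx _ ⟨n, hn, rfl⟩
      exact ⟨⟨x, hx⟩ * n * ⟨x, hx⟩⁻¹, hTn.conj_mem n hn ⟨x, hx⟩, rfl⟩
    have hTtr : IsPretransitive T Ω := hAS.transitive
    have hNtr : IsPretransitive N Ω := ⟨fun x y => by
      obtain ⟨t, ht⟩ := hTtr.exists_smul_eq x y
      exact ⟨⟨((t : H) : Perm Ω), ⟨t, t.2, rfl⟩⟩, ht⟩⟩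
    have hNcard : 2 < Nat.card N := by
      have h1 : 3 ∣ Nat.card N := by
        rw [Nat.card_congr e.toEquiv]
        exact three_dvd_psl
      exact Nat.le_of_dvd Nat.card_pos h1
    have h3H : 3 ∣ Nat.card H := by
      have h1 : 3 ∣ Nat.card N := by
        rw [Nat.card_congr e.toEquiv]
        exact three_dvd_psl
      exact h1.trans (Subgroup.card_dvd_of_le hNH)
    obtain ⟨eΩ, hσ, haff⟩ := hL N F hm hcardF hNtr ⟨e⟩
    have hMH : ∀ g : Perm Ω, g ∈ normalizer (N : Set (Perm Ω)) → g ∈ G → g ∈ H := fun g hg hgG =>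
      h.normalizer_le hNn (h.not_alt_le hNH hNcard) hg hgG
    -- the characteristic
    obtain ⟨p, hchar⟩ := CharP.exists F
    obtain ⟨n, hp, hq⟩ := FiniteField.card F p
    have := Fact.mk hp
    set q := Fintype.card F with hqdef
    have hq29 : 29 ≤ q := by omega
    -- three points
    set P0 : Ω := eΩ.symm none with hP0
    set P1 : Ω := eΩ.symm (some 0) with hP1
    set P2 : Ω := eΩ.symm (some 1) with hP2
    have h01 : P0 ≠ P1 := fun h1 => by
      have := eΩ.symm.injective h1
      exact absurd this (by simp)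
    have h02 : P0 ≠ P2 := fun h1 => by
      have := eΩ.symm.injective h1
      exact absurd this (by simp)
    have h12 : P1 ≠ P2 := fun h1 => by
      have := Option.some_injective _ (eΩ.symm.injective h1)
      exact zero_ne_one this
    -- even semilinear maps fixing `0, 1, ∞` are trivial
    have hfield : ∀ σ : F ≃+* F, Perm.sign (lift eΩ σ.toEquiv) = 1 → ∀ x, σ x = x := by
      intro σ hsign
      have h1 : lift eΩ σ.toEquiv ∈ normalizer (N : Set (Perm Ω)) := hσ σ _ (fun x => lift_apply eΩ _ x)
      have h2 := hMH _ h1 (h.alt (Perm.mem_alternatingGroup.2 hsign))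
      have h3 := h.triv _ h2 (Perm.mem_alternatingGroup.2 hsign) {P0, P1, P2} (by
        rw [Finset.card_eq_three]; exact ⟨P0, P1, P2, h01, h02, h12, rfl⟩) (by
        intro x hx
        simp only [Finset.mem_insert, Finset.mem_singleton] at hx
        rcases hx with rfl | rfl | rfl
        · exact lift_none eΩ _
        · rw [hP1, lift_some]
          change eΩ.symm (some (σ 0)) = _
          rw [map_zero]
        · rw [hP2, lift_some]
          change eΩ.symm (some (σ 1)) = _
          rw [map_one])
      intro x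
      have h4 : σ.toEquiv = (1 : Perm F) := lift_injective eΩ (by rw [h3, map_one])
      exact congrArg (fun f : Perm F => f x) h4
    let φ : F ≃+* F := frobeniusEquiv F p
    have hφ : ∀ x, φ x = x ^ p := fun x => by
      change frobeniusEquiv F p x = x ^ p
      rw [frobeniusEquiv_apply]; rfl
    -- `n ≤ 2`
    have hpow2 : ∀ x : F, (x ^ p) ^ p = x := by
      intro x
      have h1 := hfield (φ.trans φ) (by
        have : lift eΩ (φ.trans φ).toEquiv = lift eΩ φ.toEquiv * lift eΩ φ.toEquiv := by
          rw [← map_mul]; rfl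
        rw [this, map_mul]
        exact Int.units_mul_self _) x
      change φ (φ x) = x at h1
      rwa [hφ, hφ] at h1
    have hn2 : q ≤ p ^ 2 := by
      obtain ⟨g, hg⟩ := IsCyclic.exists_ofOrder_eq_natCard (α := Fˣ)
      have h1 : Nat.card Fˣ = q - 1 := by rw [Nat.card_eq_fintype_card, Fintype.card_units]
      have h2 : g ^ (p ^ 2 - 1) = 1 := by
        have h3 : g ^ (p ^ 2) = g := by
          apply Units.ext
          rw [Units.val_pow_eq_pow_val, pow_two, pow_mul]
          exact hpow2 _
        have h4 : 1 ≤ p ^ 2 := Nat.one_le_pow _ _ hp.pos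
        have h5 : g ^ (p ^ 2 - 1) * g = g := by
          rw [← pow_succ]
          have : p ^ 2 - 1 + 1 = p ^ 2 := by omega
          rw [this, h3]
        exact mul_eq_right.1 h5
      have h3 := orderOf_dvd_of_pow_eq_one h2
      rw [hg, h1] at h3
      have h4 : 0 < p ^ 2 - 1 := by
        have : 2 ^ 2 ≤ p ^ 2 := Nat.pow_le_pow_left hp.two_le 2
        omega
      have h5 := Nat.le_of_dvd h4 h3
      omega
    have hpodd : p % 2 = 1 := by
      rcases hp.eq_two_or_odd with h1 | h1
      · rw [h1] at hn2; omega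
      · exact h1
    have hneg1 : (-1 : F) ≠ 0 := neg_ne_zero.2 one_ne_zero
    have h2ne : (2 : F) ≠ 0 := by
      intro h1
      have h3 : ((2 : ℕ) : F) = 0 := by exact_mod_cast h1
      rw [CharP.cast_eq_zero_iff F p] at h3
      have h4 := Nat.le_of_dvd (by norm_num) h3
      have h5 := hp.two_le
      omega
    -- the map `x ↦ - x`
    set ν : Perm F := Equiv.neg F with hν
    set ι : Perm Ω := lift eΩ ν with hι
    have hι2 : ι * ι = 1 := by
      rw [hι, ← map_mul]
      have : ν * ν = 1 := by
        ext x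
        change - - x = x
        rw [neg_neg]
      rw [this, map_one]
    have hιs : ι.support.card = q - 1 := by
      rw [hι, card_support_lift]
      have : ν.support = Finset.univ.erase 0 := by
        ext x
        rw [Perm.mem_support, Finset.mem_erase]
        change -x ≠ x ↔ x ≠ 0 ∧ x ∈ Finset.univ
        constructor
        · intro h1
          refine ⟨fun h3 => h1 (by rw [h3, neg_zero]), Finset.mem_univ x⟩
        · rintro ⟨h1, -⟩ h3
          apply h1
          have h4 : (2 : F) * x = 0 := by linear_combination -h3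
          rcases mul_eq_zero.1 h4 with h5 | h5
          · exact absurd h5 h2ne
          · exact h5
      rw [this, Finset.card_erase_of_mem (Finset.mem_univ _), Finset.card_univ]
    have hιG : ι ∈ G → ι ∈ H := by
      intro hG
      refine hMH ι (haff (-1) 0 hneg1 ι fun x => ?_) hG
      rw [hι, lift_apply]
      congr 1
      funext y
      change -y = -1 * y + 0
      ring
    have hcases : (n : ℕ) = 1 ∨ (n : ℕ) = 2 := by
      have h1 : (n : ℕ) ≤ 2 := by
        by_contra hlt
        have h3 : p ^ 3 ≤ p ^ (n : ℕ) := Nat.pow_le_pow_right hp.pos (by omega)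
        have h4 : p ^ 2 < p ^ 3 := Nat.pow_lt_pow_right hp.one_lt (by norm_num)
        omega
      have h2 := n.pos
      omega
    rcases hcases with hn | hn
    · -- `q = p`
      rw [hn, pow_one] at hq
      refine h.concl_prime (Or.inr rfl) hp (by omega) (fun _ => h3H) hι2 (by rw [hιs, hq]) hιG
    · -- `q = p²`
      rw [hn] at hq
      set Φ : Perm Ω := lift eΩ φ.toEquiv with hΦ
      have hΦN : Φ ∈ normalizer (N : Set (Perm Ω)) := hσ φ _ (fun x => lift_apply eΩ _ x)
      have hΦ2 : Φ * Φ = 1 := by
        rw [hΦ, ← map_mul]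
        have : φ.toEquiv * φ.toEquiv = (1 : Perm F) := by
          ext x
          change φ (φ x) = x
          rw [hφ, hφ, hpow2]
        rw [this, map_one]
      have hΦs : Φ.support.card = p ^ 2 - p := by
        rw [hΦ, card_support_lift]
        have h1 : Perm.support (φ.toEquiv) = Finset.univ.filter fun x => x ∉ (⊥ : Subfield F) := by
          ext x
          rw [Perm.mem_support, Finset.mem_filter, Subfield.mem_bot_iff_pow_eq_self F p]
          change φ x ≠ x ↔ _
          rw [hφ]
          simp
        have h2 : (Finset.univ.filter fun x => x ∈ (⊥ : Subfield F)).card = p := by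
          have h3 := Subfield.card_bot F p
          rw [Nat.card_eq_fintype_card, Fintype.card_subtype] at h3
          exact h3
        have h3 := Finset.card_filter_add_card_filter_not (s := (Finset.univ : Finset F)) (fun x => x ∈ (⊥ : Subfield F))
        rw [h1]
        rw [h2, Finset.card_univ] at h3
        omega
      have hΦe : Perm.sign Φ = -1 := by
        rcases Int.units_eq_one_or (Perm.sign Φ) with h1 | h1
        · exfalso
          have h2 := hfield φ h1
          have h3 : Φ = 1 := by
            rw [hΦ]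
            have : (φ.toEquiv : Perm F) = 1 := by ext x; exact h2 x
            rw [this, map_one]
          rw [h3, Perm.support_one, Finset.card_empty] at hΦs
          have h4 : 2 * p ≤ p ^ 2 := by
            rw [pow_two]; exact Nat.mul_le_mul_right _ hp.two_le
          have := hp.pos
          omega
        · exact h1
      have hιH : ι ∈ H := by
        apply hιG
        apply h.alt
        rw [Perm.mem_alternatingGroup, sign_inv hι2, hιs, hq]
        have : Even ((p ^ 2 - 1) / 2) := by
          obtain ⟨j, hj⟩ : ∃ j, p = 2 * j + 1 := ⟨p / 2, by omega⟩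
          have h1 : p ^ 2 = 4 * (j * j + j) + 1 := by rw [hj]; ring
          rw [h1]
          exact Nat.even_iff.2 (by omega)
        exact this.neg_one_pow
      refine h.concl_sq hp ?_ h3H hΦ2 hΦs hΦe (fun hG => hMH Φ hΦN hG) hι2 (by rw [hιs, hq]) hιH
      have : 1 ≤ p ^ 2 := Nat.one_le_pow _ _ hp.pos
      omega

end three

section final

/-- Case I (helper430): `B` is regular on the `k`-sets -/
def StCaseI : Prop :=
  ∀ {Ω : Type u} [Fintype Ω] [DecidableEq Ω], 30 ≤ Fintype.card Ω → ∀ {k : ℕ}, 2 ≤ k → 2 * k < Fintype.card Ω →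
    ∀ B : Subgroup (Perm Ω), Nat.card B = (Fintype.card Ω).choose k →
    (∀ b ∈ B, ∀ s : Finset Ω, s.card = k → s.map b.toEmbedding = s → b = 1) →
    3 * Nat.factorial 29 < Nat.card B → Concl B

/-- the conclusion for the concrete situation -/
theorem PEx.concl {Ω : Type u} [Fintype Ω] [DecidableEq Ω] {G H B : Subgroup (Perm Ω)} (h : PEx G H B) (hI : StCaseI.{u})
    (hT : StThree.{u}) (hL : StLine.{u}) (hF : StFour.{u})
    (hK : ∀ (H : Subgroup (Perm Ω)) (T : Subgroup H), AS H Ω T → Known2 T (Nat.card Ω)) : Concl B := by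
  rcases h.dich with ⟨k, hk2, hk, hcard, hfree⟩ | ⟨Γ, k, hpre, htwo⟩
  · exact hI h.deg hk2 hk B hcard hfree h.large
  · have hm := h.deg
    rcases Nat.lt_or_ge k 4 with hk | hk
    · have h2 := htwo (by omega)
      have hpos := hpre.pos
      obtain rfl | rfl | rfl : k = 1 ∨ k = 2 ∨ k = 3 := by omega
      · exact h2.one_false.elim
      · obtain ⟨hp, ι, hι2, ⟨a, ha⟩, hιG⟩ := h2.two_prime
        refine h2.concl_prime (Or.inl rfl) hp (by omega) (fun h3 => absurd h3 (by norm_num)) hι2 ?_ hιG
        have h3 : ι.support = Finset.univ.erase a := by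
          ext x
          rw [Perm.mem_support, Finset.mem_erase, Ne, ha x]
          simp
        rw [h3, Finset.card_erase_of_mem (Finset.mem_univ _), Finset.card_univ]
      · exact h2.three (hK H) hT hL
    · exact (hF G H B Γ k hk hpre).elim

end final

end Cfsg.Agent.H454.Reg.Alt

namespace Cfsg.Agent.H454.Reg

open Equiv MulAction Subgroup
open Cfsg.Agent.H384.TwoTrans (AS Known2)

universe u v w

/-- the conclusion depends only on the isomorphism type -/
theorem Concl.congr {B : Type v} [Group B] {B' : Type w} [Group B'] (e : B ≃* B') (h : Concl B) : Concl B' := by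
  have hc : Nat.card B' = Nat.card B := (Nat.card_congr e.toEquiv).symm
  rcases h with ⟨q, m, hq, hqm, C, hCn, hCc, hCq⟩ | ⟨F, _, _, h1, h2, f, hf, hfr⟩ | ⟨p, hp, h⟩ | ⟨p, hp, h4, ⟨f⟩⟩
  · left
    refine ⟨q, m, hq, by rw [hc]; exact hqm, C.map e.toMonoidHom, hCn.map _ e.surjective, ?_, ?_⟩
    · exact isCyclic_of_surjective _ (MonoidHom.subgroupMap_surjective e.toMonoidHom C)
    · intro hn
      have := hCq hCn
      exact isCyclic_of_surjective (QuotientGroup.map C (C.map e.toMonoidHom) e.toMonoidHom (Subgroup.le_comap_map _ _)) (by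
        intro y
        obtain ⟨z, rfl⟩ := QuotientGroup.mk_surjective y
        obtain ⟨x, rfl⟩ := e.surjective z
        exact ⟨(x : B ⧸ C), rfl⟩)
  · right; left
    refine ⟨F, inferInstance, inferInstance, h1, by rw [hc]; exact h2, f.comp e.symm.toMonoidHom,
      hf.comp e.symm.injective, ?_⟩
    rintro _ ⟨x, rfl⟩
    exact hfr ⟨e.symm x, rfl⟩
  · right; right; left
    refine ⟨p, hp, ?_⟩
    rcases h with ⟨⟨f⟩⟩ | ⟨⟨f⟩⟩ | ⟨h1, ⟨f⟩⟩
    · exact Or.inl ⟨e.symm.trans f⟩
    · exact Or.inr (Or.inl ⟨e.symm.trans f⟩)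
    · exact Or.inr (Or.inr ⟨h1, ⟨e.symm.trans f⟩⟩)
  · right; right; right
    exact ⟨p, hp, h4, ⟨e.symm.trans f⟩⟩

/-- **the row of the alternating groups**, from its parts -/
theorem row_alt_of (hI : Alt.StCaseI.{0}) (hT : Alt.StThree.{0}) (hL : Alt.StLine.{0}) (hF : Alt.StFour.{0}) {n : ℕ}
    (hK : ∀ (H : Subgroup (Perm (Fin n))) (T : Subgroup H), AS H (Fin n) T → Known2 T (Nat.card (Fin n)))
    (hE : ∀ {G : Type u} [Group G] [Finite G] {T H B : Subgroup G}, Ex T H B → ¬ T ≤ B) :
    Row.{0, u} (alternatingGroup (Fin n)) := by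
  intro G _ _ T H B h ⟨e⟩
  obtain ⟨f, hf, hP⟩ := Alt.exists_pex h (hE h) e
  exact (hP.concl hI hT hL hF hK).congr (B.equivMapOfInjective f hf).symm

end Cfsg.Agent.H454.Reg
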