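import Cfsg.Agent.H454.Reg.Alt.Affine
import Cfsg.Agent.S0034
import Cfsg.Agent.S0042
import Cfsg.Agent.S4252
import Cfsg.Agent.S0735
import Cfsg.Agent.S0746
import Cfsg.Agent.H384.TwoTransRed

/-!
# S3691, alternating socle: Case II for `k = 1, 2`
-/

set_option autoImplicit false

namespace Cfsg.Agent.H454.Reg.Alt

open Equiv MulAction Subgroup
open scoped Pointwise

universe u

section prim

variable {Ω : Type u} {H : Subgroup (Perm Ω)}

/-- nontrivial normal subgroups of primitive groups are transitive -/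
theorem trans_of_normal (hH : IsPreprimitive H Ω) {N : Subgroup (Perm Ω)} (hle : N ≤ H)
    (hn : ∀ x ∈ H, ∀ n ∈ N, x * n * x⁻¹ ∈ N) (hne : N ≠ ⊥) : ∀ x y : Ω, ∃ n ∈ N, n x = y := by
  have h1 : (N.subgroupOf H).Normal := ⟨fun n hn' g => hn g g.2 n hn'⟩
  have h2 : IsQuasiPreprimitive H Ω := IsPreprimitive.isQuasiPreprimitive
  have h3 : fixedPoints (N.subgroupOf H) Ω ≠ .univ := by
    intro h
    apply hne
    rw [Subgroup.eq_bot_iff_forall]
    intro n hn'
    ext x
    have h4 : x ∈ fixedPoints (N.subgroupOf H) Ω := by rw [h]; trivial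
    exact h4 ⟨⟨n, hle hn'⟩, hn'⟩
  have h4 := h2.isPretransitive_of_normal h3
  intro x y
  obtain ⟨n, hn'⟩ := h4.exists_smul_eq x y
  exact ⟨((n : H) : Perm Ω), n.2, hn'⟩

/-- an abelian transitive group is regular -/
theorem free_of_comm {V : Subgroup (Perm Ω)} (hcomm : ∀ u ∈ V, ∀ v ∈ V, u * v = v * u)
    (htr : ∀ x y : Ω, ∃ v ∈ V, v x = y) : ∀ v ∈ V, ∀ x, v x = x → v = 1 := by
  intro v hv x hx
  ext y
  obtain ⟨u, hu, rfl⟩ := htr x y
  have h1 : v (u x) = u (v x) := congrArg (fun f : Perm Ω => f x) (hcomm v hv u hu)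
  rw [h1, hx]; rfl

end prim

section small

variable {Ω : Type u} [Fintype Ω] [DecidableEq Ω] {G H B : Subgroup (Perm Ω)} {Γ : Finset Ω} {k : ℕ}

/-- a nontrivial abelian normal subgroup of the primitive group `H` -/
theorem Two.of_abelian (h : Two G H B Γ k) (hk : k ≤ 3) (hH : IsPreprimitive H Ω) {A : Subgroup (Perm Ω)} (hle : A ≤ H)
    (hn : ∀ x ∈ H, ∀ n ∈ A, x * n * x⁻¹ ∈ A) (hne : A ≠ ⊥) (hcomm : ∀ u ∈ A, ∀ v ∈ A, u * v = v * u) :
    k = 2 ∧ (Fintype.card Ω).Prime ∧
      ∃ ι : Perm Ω, ι * ι = 1 ∧ (∃ a, ∀ x, ι x = x ↔ x = a) ∧ (ι ∈ G → ι ∈ H) := by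
  classical
  -- a prime divisor of `|A|`
  have hntA : Nontrivial A := (Subgroup.nontrivial_iff_ne_bot A).2 hne
  obtain ⟨r, hr, hrA⟩ := Nat.exists_prime_and_dvd (Finite.one_lt_card_iff_nontrivial.2 hntA).ne'
  have := Fact.mk hr
  obtain ⟨a, ha⟩ := exists_prime_orderOf_dvd_card' r hrA
  let V : Subgroup (Perm Ω) :=
    { carrier := {v | v ∈ A ∧ v ^ r = 1}
      one_mem' := ⟨A.one_mem, one_pow r⟩
      mul_mem' := fun {u v} hu hv => ⟨A.mul_mem hu.1 hv.1, by
        rw [(show Commute u v from hcomm u hu.1 v hv.1).mul_pow, hu.2, hv.2, one_mul]⟩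
      inv_mem' := fun {v} hv => ⟨A.inv_mem hv.1, by rw [inv_pow, hv.2, inv_one]⟩ }
  have hVn : ∀ x ∈ H, ∀ v ∈ V, x * v * x⁻¹ ∈ V := fun x hx v hv =>
    ⟨hn x hx v hv.1, by rw [conj_pow, hv.2, mul_one, mul_inv_cancel]⟩
  have hVne : V ≠ ⊥ := by
    intro h1
    have h2 : (a : Perm Ω) ∈ V := ⟨a.2, by
      have : a ^ r = 1 := by rw [← ha]; exact pow_orderOf_eq_one a
      exact congrArg Subtype.val this⟩
    rw [h1, Subgroup.mem_bot] at h2
    have h3 : a = 1 := Subtype.ext h2
    rw [h3, orderOf_one] at ha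
    exact hr.ne_one ha.symm
  have hVcomm : ∀ u ∈ V, ∀ v ∈ V, u * v = v * u := fun u hu v hv => hcomm u hu.1 v hv.1
  have htr := trans_of_normal hH (N := V) (fun v hv => hle hv.1) hVn hVne
  exact h.affine hk hVn hVcomm hr (fun v hv => hv.2) htr (free_of_comm hVcomm htr)

theorem Two.trans_one (h : Two G H B Γ 1) : IsPretransitive H Ω := by
  have h1 := h.hom
  constructor
  intro x y
  obtain ⟨g, hg⟩ := h1.exists_smul_eq (⟨{x}, Finset.card_singleton x⟩ : Set.powersetCard Ω 1)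
    ⟨{y}, Finset.card_singleton y⟩
  refine ⟨g, ?_⟩
  have h2 : g • ({x} : Finset Ω) = {y} := congrArg Subtype.val hg
  rw [Finset.smul_finset_singleton] at h2
  exact Finset.singleton_injective h2

/-- `k = 1`: `H` is primitive -/
theorem Two.prim_one (h : Two G H B Γ 1) : IsPreprimitive H Ω := by
  classical
  have hm := h.deg
  have htr := h.trans_one
  refine ⟨fun {A} hA => ?_⟩
  by_contra htriv
  rw [IsTrivialBlock, not_or] at htriv
  obtain ⟨hns, hnu⟩ := htriv
  rw [Set.not_subsingleton_iff] at hns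
  obtain ⟨x, hx, y, hy, hxy⟩ := hns
  obtain ⟨z, hz⟩ := (Set.ne_univ_iff_exists_notMem A).1 hnu
  -- the block system
  let R : Ω → Ω → Prop := fun u v => ∃ g : H, u ∈ g • A ∧ v ∈ g • A
  have hblk : ∀ g g' : H, ∀ u, u ∈ g • A → u ∈ g' • A → g • A = g' • A := by
    intro g g' u hu hu'
    rcases (isBlock_iff_smul_eq_or_disjoint.1 hA) (g'⁻¹ * g) with h1 | h1
    · rw [mul_smul, inv_smul_eq_iff] at h1
      exact h1
    · exfalso
      have h2 : g'⁻¹ • u ∈ (g'⁻¹ * g) • A := by
        rw [mul_smul]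
        exact Set.smul_mem_smul_set hu
      have h3 : g'⁻¹ • u ∈ A := by
        obtain ⟨w, hw, rfl⟩ := hu'
        change g'⁻¹ • g' • w ∈ A
        rw [inv_smul_smul]; exact hw
      exact (Set.disjoint_left.1 h1) h2 h3
  have hRrefl : ∀ u, R u u := fun u => by
    obtain ⟨g, hg⟩ := htr.exists_smul_eq x u
    exact ⟨g, ⟨x, hx, hg⟩, ⟨x, hx, hg⟩⟩
  have hRsymm : ∀ u v, R u v → R v u := fun u v ⟨g, h1, h2⟩ => ⟨g, h2, h1⟩
  have hRtrans : ∀ u v w, R u v → R v w → R u w := fun u v w ⟨g, h1, h2⟩ ⟨g', h3, h4⟩ =>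
    ⟨g, h1, by rw [hblk g g' v h2 h3]; exact h4⟩
  let M : Subgroup (Perm Ω) :=
    { carrier := {g | ∀ u v, R (g u) (g v) ↔ R u v}
      one_mem' := fun u v => Iff.rfl
      mul_mem' := fun {a b} ha hb u v => (ha (b u) (b v)).trans (hb u v)
      inv_mem' := fun {a} ha u v => by
        have h1 := ha (a⁻¹ u) (a⁻¹ v)
        have e1 : a (a⁻¹ u) = u := a.apply_symm_apply u
        have e2 : a (a⁻¹ v) = v := a.apply_symm_apply v
        rw [e1, e2] at h1
        exact h1.symm }
  have hHM : H ≤ M := by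
    have key : ∀ g ∈ H, ∀ u v, R u v → R (g u) (g v) := by
      rintro g hg u v ⟨g', h1, h2⟩
      refine ⟨⟨g, hg⟩ * g', ?_, ?_⟩
      · rw [mul_smul]; exact Set.smul_mem_smul_set (a := (⟨g, hg⟩ : H)) h1
      · rw [mul_smul]; exact Set.smul_mem_smul_set (a := (⟨g, hg⟩ : H)) h2
    intro g hg u v
    refine ⟨fun h1 => ?_, key g hg u v⟩
    have h2 := key g⁻¹ (H.inv_mem hg) _ _ h1
    have e1 : g⁻¹ (g u) = u := g.symm_apply_apply u
    have e2 : g⁻¹ (g v) = v := g.symm_apply_apply v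
    rwa [e1, e2] at h2
  have hAx : ∀ w, R x w → w ∈ A := by
    rintro w ⟨g, h1, h2⟩
    have h3 : g • A = (1 : H) • A := hblk g 1 x h1 (by rw [one_smul]; exact hx)
    rw [h3, one_smul] at h2
    exact h2
  have hnM : ¬ alternatingGroup Ω ≤ M := by
    intro hle
    -- an even permutation fixing `x` and moving `y` to `z`
    have hxz : x ≠ z := fun h1 => hz (h1 ▸ hx)
    have hyz : y ≠ z := fun h1 => hz (h1 ▸ hy)
    obtain ⟨w, hw⟩ : ∃ w, w ∉ ({x, y, z} : Finset Ω) := by
      by_contra hcon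
      push Not at hcon
      have h1 : Fintype.card Ω ≤ ({x, y, z} : Finset Ω).card := by
        rw [← Finset.card_univ]
        exact Finset.card_le_card fun u _ => hcon u
      have h2 : ({x, y, z} : Finset Ω).card ≤ 3 := Finset.card_le_three
      omega
    simp only [Finset.mem_insert, Finset.mem_singleton, not_or] at hw
    obtain ⟨hwx, hwy, hwz⟩ := hw
    have hg : swap y w * swap y z ∈ alternatingGroup Ω := by
      rw [Perm.mem_alternatingGroup, map_mul, Perm.sign_swap (Ne.symm hwy), Perm.sign_swap hyz]; rfl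
    have h1 := (hle (inv_mem hg) z x).2
    -- `g z = w`, `g x = x`, `g y = z`
    have h2 : R x y := ⟨1, by rw [one_smul]; exact hx, by rw [one_smul]; exact hy⟩
    have h3 := (hle hg x y).2 h2
    have e1 : (swap y w * swap y z) x = x := by
      change swap y w (swap y z x) = x
      rw [swap_apply_of_ne_of_ne hxy hxz, swap_apply_of_ne_of_ne hxy (Ne.symm hwx)]
    have e2 : (swap y w * swap y z) y = z := by
      change swap y w (swap y z y) = z
      rw [swap_apply_left, swap_apply_of_ne_of_ne hyz.symm (Ne.symm hwz)]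
    rw [e1, e2] at h3
    exact hz (hAx z h3)
  have hMH : M ⊓ G = H := by
    rcases h.max (M ⊓ G) (le_inf hHM h.hG) inf_le_right with h1 | h1
    · exact h1
    · exfalso
      apply hnM
      refine h.alt.trans ?_
      rw [← h1]
      exact inf_le_left
  -- the double transposition
  obtain ⟨g, hg⟩ := htr.exists_smul_eq x z
  have hgx : (g : Perm Ω) x = z := hg
  set z' : Ω := (g : Perm Ω) y with hz'
  have hzz' : z ≠ z' := by
    rw [← hgx, hz']
    exact fun h1 => hxy ((g : Perm Ω).injective h1)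
  have hRzz : R z z' := ⟨g, ⟨x, hx, hgx⟩, ⟨y, hy, rfl⟩⟩
  have hz'A : z' ∉ A := fun h1 => hz (by
    have h2 : R x z' := ⟨1, by rw [one_smul]; exact hx, by rw [one_smul]; exact h1⟩
    exact hAx z (hRtrans _ _ _ h2 (hRsymm _ _ hRzz)))
  have hRxy : R x y := ⟨1, by rw [one_smul]; exact hx, by rw [one_smul]; exact hy⟩
  set t : Perm Ω := swap x y * swap z z' with ht
  have hswap : ∀ u v : Ω, R u v → swap u v ∈ M := by
    intro u v huv
    have h1 : ∀ w, R (swap u v w) w := by
      intro w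
      by_cases hwu : w = u
      · rw [hwu, swap_apply_left]; exact hRsymm _ _ huv
      · by_cases hwv : w = v
        · rw [hwv, swap_apply_right]; exact huv
        · rw [swap_apply_of_ne_of_ne hwu hwv]; exact hRrefl w
    intro w w'
    constructor
    · intro h2
      exact hRtrans _ _ _ (hRsymm _ _ (h1 w)) (hRtrans _ _ _ h2 (h1 w'))
    · intro h2
      exact hRtrans _ _ _ (h1 w) (hRtrans _ _ _ h2 (hRsymm _ _ (h1 w')))
  have htM : t ∈ M := M.mul_mem (hswap x y hRxy) (hswap z z' hRzz)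
  have hteven : t ∈ alternatingGroup Ω := by
    rw [Perm.mem_alternatingGroup, ht, map_mul, Perm.sign_swap hxy, Perm.sign_swap hzz']; rfl
  have htH : t ∈ H := by rw [← hMH]; exact ⟨htM, h.alt hteven⟩
  obtain ⟨w, hw⟩ : ∃ w, w ∉ ({x, y, z, z'} : Finset Ω) := by
    by_contra hcon
    push Not at hcon
    have h1 : Fintype.card Ω ≤ ({x, y, z, z'} : Finset Ω).card := by
      rw [← Finset.card_univ]
      exact Finset.card_le_card fun u _ => hcon u
    have h2 : ({x, y, z, z'} : Finset Ω).card ≤ 4 := Finset.card_le_four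
    omega
  simp only [Finset.mem_insert, Finset.mem_singleton, not_or] at hw
  have h1 : t = 1 := by
    refine h.triv t htH hteven {w} (Finset.card_singleton w) fun u hu => ?_
    rw [Finset.mem_singleton] at hu
    rw [hu]
    change swap x y (swap z z' w) = w
    rw [swap_apply_of_ne_of_ne hw.2.2.1 hw.2.2.2, swap_apply_of_ne_of_ne hw.1 hw.2.1]
  have h2 : t x = x := by rw [h1]; rfl
  have h3 : t x = y := by
    change swap x y (swap z z' x) = y
    rw [swap_apply_of_ne_of_ne (fun h4 : x = z => hz (by rw [← h4]; exact hx))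
      (fun h4 : x = z' => hz'A (by rw [← h4]; exact hx)), swap_apply_left]
  exact hxy (h2.symm.trans h3)

/-- the even permutations in `H` -/
theorem even_normal (H : Subgroup (Perm Ω)) : ∀ x ∈ H, ∀ n ∈ H ⊓ alternatingGroup Ω, x * n * x⁻¹ ∈ H ⊓ alternatingGroup Ω :=
  fun x hx n hn => ⟨H.mul_mem (H.mul_mem hx hn.1) (H.inv_mem hx),
    (inferInstance : (alternatingGroup Ω).Normal).conj_mem n hn.2 x⟩

theorem card_le_two_mul (H : Subgroup (Perm Ω)) : Nat.card H ≤ 2 * Nat.card (H ⊓ alternatingGroup Ω : Subgroup (Perm Ω)) := by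
  let f : H →* ℤˣ := Perm.sign.comp H.subtype
  have h1 : Nat.card f.ker * f.ker.index = Nat.card H := Subgroup.card_mul_index _
  have h2 : f.ker.index ≤ 2 := by
    rw [Subgroup.index_ker]
    have h3 : Nat.card ℤˣ = 2 := by rw [Nat.card_eq_fintype_card]; rfl
    rw [← h3]
    exact Subgroup.card_le_card_group _
  have h4 : Nat.card f.ker ≤ Nat.card (H ⊓ alternatingGroup Ω : Subgroup (Perm Ω)) := by
    refine Nat.card_le_card_of_injective (fun x : f.ker => (⟨((x : H) : Perm Ω), (x : H).2, x.2⟩ :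
      (H ⊓ alternatingGroup Ω : Subgroup (Perm Ω)))) fun x y hxy => ?_
    exact Subtype.ext (Subtype.ext (congrArg (fun z : (H ⊓ alternatingGroup Ω : Subgroup (Perm Ω)) => (z : Perm Ω)) hxy))
  calc Nat.card H = Nat.card f.ker * f.ker.index := h1.symm
    _ ≤ Nat.card f.ker * 2 := Nat.mul_le_mul_left _ h2
    _ ≤ Nat.card (H ⊓ alternatingGroup Ω : Subgroup (Perm Ω)) * 2 := Nat.mul_le_mul_right _ h4
    _ = _ := by ring

/-- **`k = 1` is impossible.** -/
theorem Two.one_false (h : Two G H B Γ 1) : False := by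
  classical
  have hm := h.deg
  have hprim := h.prim_one
  have htrH := h.trans_one
  have hnt : Nontrivial Ω := Fintype.one_lt_card_iff_nontrivial.1 (by omega)
  obtain ⟨a⟩ : Nonempty Ω := inferInstance
  set N : Subgroup (Perm Ω) := H ⊓ alternatingGroup Ω with hN
  have hNn : ∀ x ∈ H, ∀ n ∈ N, x * n * x⁻¹ ∈ N := even_normal H
  have hfree : ∀ v ∈ N, ∀ x, v x = x → v = 1 := fun v hv x hx =>
    h.triv v hv.1 hv.2 {x} (Finset.card_singleton x) fun y hy => by rw [Finset.mem_singleton.1 hy]; exact hx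
  have hNne : N ≠ ⊥ := by
    intro h1
    have h2 := card_le_two_mul H
    rw [← hN, h1, Subgroup.card_bot] at h2
    have h3 : Fintype.card Ω ≤ Nat.card H := by
      rw [← Nat.card_eq_fintype_card]
      exact Nat.card_le_card_of_surjective (fun g : H => g • a) fun y => htrH.exists_smul_eq a y
    omega
  have htr := trans_of_normal hprim (N := N) inf_le_left hNn hNne
  -- right multiplications
  let p := pt htr hfree a
  let c : N →* Perm Ω :=
    { toFun := fun n => p.permCongr (Equiv.mulRight n⁻¹)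
      map_one' := by
        ext x
        change p (p.symm x * 1⁻¹) = x
        rw [inv_one, mul_one, apply_symm_apply]
      map_mul' := fun m n => by
        ext x
        change p (p.symm x * (m * n)⁻¹) = p (p.symm (p (p.symm x * n⁻¹)) * m⁻¹)
        rw [symm_apply_apply, mul_inv_rev, mul_assoc] }
  have hc : ∀ (n : N) (u : N), c n ((u : Perm Ω) a) = ((u * n⁻¹ : N) : Perm Ω) a := by
    intro n u
    change p (p.symm ((u : Perm Ω) a) * n⁻¹) = _
    rw [show (u : Perm Ω) a = p u from rfl, symm_apply_apply]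
    rfl
  have hccomm : ∀ (n v : N), c n * (v : Perm Ω) = v * c n := by
    intro n v
    ext x
    obtain ⟨u, rfl⟩ := p.surjective x
    change c n ((v : Perm Ω) ((u : Perm Ω) a)) = (v : Perm Ω) (c n ((u : Perm Ω) a))
    have h1 : (v : Perm Ω) ((u : Perm Ω) a) = ((v * u : N) : Perm Ω) a := rfl
    rw [h1, hc, hc, mul_assoc]
    rfl
  have hcH : ∀ n : N, Perm.sign (c n) = 1 → ∀ v : N, n * v = v * n := by
    intro n hn v
    have h1 : c n ∈ normalizer (N : Set (Perm Ω)) := by
      rw [Subgroup.mem_normalizer_iff]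
      intro v
      constructor
      · intro hv
        rw [hccomm n ⟨v, hv⟩, mul_inv_cancel_right]; exact hv
      · intro hv
        have h2 : v = (c n)⁻¹ * (c n * v * (c n)⁻¹) * c n := by group
        have h3 := hccomm n ⟨_, hv⟩
        rw [h2, mul_assoc, ← h3, inv_mul_cancel_left]
        exact hv
    have h2 : c n ∈ H := h.normalizer_le hNn (not_alt_le_normalizer (by omega) htr hfree) h1
      (h.alt (Perm.mem_alternatingGroup.2 hn))
    have h3 : c n ∈ N := ⟨h2, Perm.mem_alternatingGroup.2 hn⟩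
    have h4 : (⟨c n, h3⟩ : N) = n⁻¹ := by
      apply p.injective
      have h5 := hc n 1
      rw [one_mul] at h5
      exact h5
    have h6 := hccomm n v
    have h7 : (⟨c n, h3⟩ : N) * v = v * ⟨c n, h3⟩ := Subtype.ext h6
    rw [h4] at h7
    have h8 : v * n = n * v := by
      calc v * n = n * (n⁻¹ * v) * n := by group
        _ = n * (v * n⁻¹) * n := by rw [h7]
        _ = n * v := by group
    exact h8.symm
  have hcomm : ∀ u ∈ N, ∀ v ∈ N, u * v = v * u := by
    intro u hu v hv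
    have key : (⟨u, hu⟩ : N) * ⟨v, hv⟩ = ⟨v, hv⟩ * ⟨u, hu⟩ := by
      rcases Int.units_eq_one_or (Perm.sign (c ⟨u, hu⟩)) with h1 | h1
      · exact hcH _ h1 _
      · rcases Int.units_eq_one_or (Perm.sign (c ⟨v, hv⟩)) with h2 | h2
        · exact (hcH _ h2 _).symm
        · have h3 : Perm.sign (c (⟨u, hu⟩ * ⟨v, hv⟩)) = 1 := by
            rw [map_mul, map_mul, h1, h2]; rfl
          have h4 := hcH _ h3 ⟨u, hu⟩
          -- `(u v) u = u (u v)`
          rw [mul_assoc] at h4
          exact (mul_left_cancel h4).symm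
    exact congrArg Subtype.val key
  have := (h.of_abelian (by norm_num) hprim (A := N) inf_le_left hNn hNne hcomm).1
  omega

end small

section two

variable {Ω : Type u} [Fintype Ω] [DecidableEq Ω] {G H B : Subgroup (Perm Ω)} {Γ : Finset Ω}

/-- **`k = 2`: `m` is prime.** -/
theorem Two.two_prime (h : Two G H B Γ 2) : (Fintype.card Ω).Prime ∧
      ∃ ι : Perm Ω, ι * ι = 1 ∧ (∃ a, ∀ x, ι x = x ↔ x = a) ∧ (ι ∈ G → ι ∈ H) := by
  classical
  have hm := h.deg
  have hnt : Nontrivial Ω := Fintype.one_lt_card_iff_nontrivial.1 (by omega)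
  obtain ⟨a⟩ : Nonempty Ω := inferInstance
  have hcardH : (Fintype.card Ω).choose 2 ≤ Nat.card H := by
    have h1 : Nat.card (Set.powersetCard Ω 2) = (Fintype.card Ω).choose 2 := by
      rw [Set.powersetCard.card, Nat.card_eq_fintype_card]
    rw [← h1]
    have := h.hom
    refine Nat.card_le_card_of_surjective (fun x : H => x • (⟨Γ, h.cardΓ⟩ : Set.powersetCard Ω 2)) ?_
    intro s
    exact this.exists_smul_eq _ s
  have hch : (Fintype.card Ω).choose 2 * 2 = Fintype.card Ω * (Fintype.card Ω - 1) := by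
    have := Nat.triangle_succ (Fintype.card Ω - 1)
    rw [Nat.choose_two_right]
    exact Nat.div_mul_cancel (Nat.even_mul_pred_self _).two_dvd
  have hbig : 4 * Fintype.card Ω < Nat.card H := by
    obtain ⟨j, hj⟩ := Nat.exists_eq_add_of_le hm
    rw [hj] at hch hcardH ⊢
    have e1 : 30 + j - 1 = 29 + j := by omega
    rw [e1] at hch
    nlinarith
  have hHne : H ≠ ⊥ := by
    intro h1
    rw [h1, Subgroup.card_bot] at hbig
    omega
  have hprim : IsPreprimitive H Ω := (Cfsg.Agent.S0735.result H h.hom (by omega)).2 hHne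
  set N : Subgroup (Perm Ω) := H ⊓ alternatingGroup Ω with hN
  have hNn : ∀ x ∈ H, ∀ n ∈ N, x * n * x⁻¹ ∈ N := even_normal H
  have hNcard : Fintype.card Ω < Nat.card N := by
    have := card_le_two_mul H
    rw [← hN] at this
    omega
  have hNne : N ≠ ⊥ := by
    intro h1
    rw [h1, Subgroup.card_bot] at hNcard
    omega
  have htr := trans_of_normal hprim (N := N) inf_le_left hNn hNne
  have hfix : ∀ g : N, g ≠ 1 → ∀ α β : Ω, g • α = α → g • β = β → α = β := by
    intro g hg α β hα hβ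
    by_contra hne
    apply hg
    apply Subtype.ext
    refine h.triv g g.2.1 g.2.2 {α, β} (Finset.card_pair hne) fun x hx => ?_
    rw [Finset.mem_insert, Finset.mem_singleton] at hx
    rcases hx with rfl | rfl
    · exact hα
    · exact hβ
  obtain ⟨hF, hker⟩ := Cfsg.Agent.S4252.result (G := N) (Ω := Ω) (by omega)
    (fun α β => by
      obtain ⟨n, hn, hnαβ⟩ := htr α β
      exact ⟨⟨n, hn⟩, hnαβ⟩)
    (by
      by_contra hcon
      push Not at hcon
      have h1 : Function.Injective fun g : N => (g : Perm Ω) a := by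
        intro g g' hgg
        have h2 : (g'⁻¹ * g) • a = a := by
          change ((g' : Perm Ω)⁻¹) ((g : Perm Ω) a) = a
          have h3 : (g : Perm Ω) a = (g' : Perm Ω) a := hgg
          rw [h3]
          exact (g' : Perm Ω).symm_apply_apply a
        by_contra hne
        exact hcon (g'⁻¹ * g) (fun h3 => hne (inv_mul_eq_one.1 h3).symm) a h2
      have h2 := Nat.card_le_card_of_injective _ h1
      rw [Nat.card_eq_fintype_card (α := Ω)] at h2
      omega) hfix a
  obtain ⟨K, hKset, hKn, hKnil⟩ := Cfsg.Agent.S0042.result _ hF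
  have hKmem : ∀ g : N, g ∈ K ↔ (g = 1 ∨ ∀ ω : Ω, g • ω ≠ ω) := by
    intro g
    rw [← SetLike.mem_coe, hKset, hker]; rfl
  -- `K` is nontrivial
  have hKne : Nontrivial K := by
    rw [Subgroup.nontrivial_iff_ne_bot]
    intro h1
    have hcardK := (Cfsg.Agent.S0034.result _ hF).1
    have htrN : IsPretransitive N Ω := ⟨fun α β => by
      obtain ⟨n, hn, hnαβ⟩ := htr α β
      exact ⟨⟨n, hn⟩, hnαβ⟩⟩
    rw [index_stabilizer_of_transitive, ← hKset, h1, Nat.card_eq_fintype_card (α := Ω)] at hcardK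
    have h2 : Nat.card ((⊥ : Subgroup N) : Set N) = 1 := Subgroup.card_bot
    omega
  -- the centre of `K` in `Perm Ω`
  let A : Subgroup (Perm Ω) := ((center K).map K.subtype).map N.subtype
  have hAmem : ∀ x : Perm Ω, x ∈ A ↔ ∃ hx : x ∈ N, (⟨x, hx⟩ : N) ∈ K ∧ ∀ z ∈ K, z * ⟨x, hx⟩ = ⟨x, hx⟩ * z := by
    intro x
    constructor
    · rintro ⟨y, ⟨z, hz, rfl⟩, rfl⟩
      refine ⟨(z : N).2, z.2, fun w hw => ?_⟩
      have h1 := (Subgroup.mem_center_iff.1 hz) ⟨w, hw⟩
      exact congrArg Subtype.val h1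
    · rintro ⟨hx, hxK, hcomm⟩
      refine ⟨⟨x, hx⟩, ⟨⟨⟨x, hx⟩, hxK⟩, ?_, rfl⟩, rfl⟩
      rw [SetLike.mem_coe, Subgroup.mem_center_iff]
      intro w
      exact Subtype.ext (hcomm w w.2)
  have hconj : ∀ x (hx : x ∈ H), ∀ n : N, n ∈ K → (⟨x * n * x⁻¹, hNn x hx n n.2⟩ : N) ∈ K := by
    intro x hx n hn
    rw [hKmem] at hn ⊢
    rcases hn with rfl | hn
    · left
      apply Subtype.ext
      change x * 1 * x⁻¹ = 1
      group
    · right
      intro ω h1
      apply hn (x⁻¹ ω)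
      have h2 : x ((n : Perm Ω) (x⁻¹ ω)) = ω := h1
      change (n : Perm Ω) (x⁻¹ ω) = x⁻¹ ω
      have e1 : x⁻¹ (x ((n : Perm Ω) (x⁻¹ ω))) = (n : Perm Ω) (x⁻¹ ω) := x.symm_apply_apply _
      rw [h2] at e1
      exact e1.symm
  have hAn : ∀ x ∈ H, ∀ n ∈ A, x * n * x⁻¹ ∈ A := by
    intro x hx n hn
    rw [hAmem] at hn ⊢
    obtain ⟨hn1, hn2, hn3⟩ := hn
    refine ⟨hNn x hx n hn1, hconj x hx ⟨n, hn1⟩ hn2, fun z hz => ?_⟩
    have h1 := hn3 _ (hconj x⁻¹ (H.inv_mem hx) z hz)
    have h2 := congrArg (fun w : N => x * (w : Perm Ω) * x⁻¹) h1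
    apply Subtype.ext
    change (z : Perm Ω) * (x * n * x⁻¹) = x * n * x⁻¹ * z
    have h3 : x * ((x⁻¹ * (z : Perm Ω) * x⁻¹⁻¹) * n) * x⁻¹ = x * (n * (x⁻¹ * (z : Perm Ω) * x⁻¹⁻¹)) * x⁻¹ := h2
    calc (z : Perm Ω) * (x * n * x⁻¹) = x * ((x⁻¹ * (z : Perm Ω) * x⁻¹⁻¹) * n) * x⁻¹ := by group
      _ = x * (n * (x⁻¹ * (z : Perm Ω) * x⁻¹⁻¹)) * x⁻¹ := h3
      _ = x * n * x⁻¹ * z := by group
  have hAne : A ≠ ⊥ := by
    intro h1
    have h2 : (center K) = ⊥ := by
      rw [eq_bot_iff]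
      intro z hz
      have h3 : ((z : N) : Perm Ω) ∈ A := ⟨_, ⟨z, hz, rfl⟩, rfl⟩
      rw [h1, Subgroup.mem_bot] at h3
      rw [Subgroup.mem_bot]
      exact Subtype.ext (Subtype.ext h3)
    exact Group.IsNilpotent.center_ne_bot K h2
  have hAcomm : ∀ u ∈ A, ∀ v ∈ A, u * v = v * u := by
    intro u hu v hv
    rw [hAmem] at hu hv
    obtain ⟨hu1, hu2, hu3⟩ := hu
    obtain ⟨hv1, hv2, hv3⟩ := hv
    exact congrArg Subtype.val (hv3 _ hu2)
  exact (h.of_abelian (by norm_num) hprim (A := A) (fun x hx => ((hAmem x).1 hx).1.1) hAn hAne hAcomm).2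

end two

end Cfsg.Agent.H454.Reg.Alt
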